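import Mathlib.AlgebraicGeometry.Morphisms.Smooth
import Mathlib.AlgebraicGeometry.Noetherian
import Mathlib.RingTheory.RegularLocalRing.Polynomial
import Mathlib.RingTheory.RingHom.StandardSmooth
import Groth.Agent.S9246

/-!
# Schemes smooth over a regular scheme are regular
-/

universe u

open CategoryTheory AlgebraicGeometry

namespace Groth.Agent.WeilExt

/-- A localization of a standard smooth algebra over a regular ring is regular. -/
theorem isRegularLocalRing_of_standardSmooth {A B : Type u} [CommRing A] [IsRegularRing A] [CommRing B]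
    {f : A →+* B} (hf : f.IsStandardSmooth) (q : Ideal B) [q.IsPrime] :
    IsRegularLocalRing (Localization.AtPrime q) := by
  obtain ⟨n, g, -, hg⟩ := hf.exists_etale_mvPolynomial
  algebraize [g]
  exact (Groth.Agent.S9246.result (MvPolynomial (Fin n) A) B q).1 inferInstance

theorem isRegularRing_of_isAffineOpen {X : Scheme.{u}} [IsLocallyNoetherian X]
    (h : ∀ x : X, IsRegularLocalRing (X.presheaf.stalk x)) {U : X.Opens} (hU : IsAffineOpen U) :
    IsRegularRing Γ(X, U) := by
  haveI : IsNoetherianRing Γ(X, U) := IsLocallyNoetherian.component_noetherian ⟨U, hU⟩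
  rw [isRegularRing_iff]
  intro p hp
  let x : X := hU.fromSpec ⟨p, hp⟩
  have hxU : x ∈ U := hU.range_fromSpec.le ⟨_, rfl⟩
  have hprime : (hU.primeIdealOf ⟨x, hxU⟩).asIdeal = p := by
    have : hU.primeIdealOf ⟨x, hxU⟩ = ⟨p, hp⟩ := hU.fromSpec.isOpenEmbedding.injective (by
      rw [hU.fromSpec_primeIdealOf])
    rw [this]
  letI := X.presheaf.algebra_section_stalk ⟨x, hxU⟩
  haveI hloc := hU.isLocalization_stalk ⟨x, hxU⟩
  haveI : IsLocalization.AtPrime (X.presheaf.stalk x) p := by
    show IsLocalization p.primeCompl _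
    convert! hloc using 2
    exact hprime.symm
  haveI := h x
  exact IsRegularLocalRing.of_ringEquiv
    (IsLocalization.algEquiv p.primeCompl (X.presheaf.stalk x) (Localization.AtPrime p)).toRingEquiv

theorem isRegularLocalRing_of_smooth {X S : Scheme.{u}} (f : X ⟶ S) [Smooth f] [IsLocallyNoetherian S]
    (hS : ∀ s : S, IsRegularLocalRing (S.presheaf.stalk s)) (x : X) :
    IsRegularLocalRing (X.presheaf.stalk x) := by
  obtain ⟨U, hU, V, hV, hxV, e, hf⟩ := Smooth.exists_isStandardSmooth f x
  haveI := isRegularRing_of_isAffineOpen hS hU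
  haveI := isRegularLocalRing_of_standardSmooth hf (hV.primeIdealOf ⟨x, hxV⟩).asIdeal
  letI := X.presheaf.algebra_section_stalk ⟨x, hxV⟩
  haveI := hV.isLocalization_stalk ⟨x, hxV⟩
  exact IsRegularLocalRing.of_ringEquiv
    (IsLocalization.algEquiv (hV.primeIdealOf ⟨x, hxV⟩).asIdeal.primeCompl
      (Localization.AtPrime (hV.primeIdealOf ⟨x, hxV⟩).asIdeal) (X.presheaf.stalk x)).toRingEquiv

/-- The spectrum of a Dedekind domain has regular local rings. -/
theorem isRegularLocalRing_stalk_Spec (R : CommRingCat.{u}) [IsRegularRing R] (s : Spec R) :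
    IsRegularLocalRing ((Spec R).presheaf.stalk s) := by
  exact IsRegularLocalRing.of_ringEquiv (Spec.stalkIso R s).symm.commRingCatIsoToRingEquiv

end Groth.Agent.WeilExt
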