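import Groth.Agent.Lib.WeilExt.Proper
import Groth.Agent.Lib.WeilExt.Regular
import Groth.Agent.Lib.RegLoc.UFD
import Groth.Agent.Lib.WeilEq.Represent
import Groth.Agent.Lib.AbRigid.Epi
import Mathlib.AlgebraicGeometry.SpreadingOut
import Mathlib.RingTheory.Ideal.MinimalPrime.Noetherian

/-!
# Extension of rational maps from smooth schemes into group schemes

For a smooth scheme `X` over a regular affine base `Spec R` of dimension at most one, a rational map to a
separated group scheme which extends in codimension one is everywhere defined (Weil).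
-/

universe u

open CategoryTheory Limits AlgebraicGeometry TopologicalSpace

namespace Groth.Agent.WeilExt

variable {R : CommRingCat.{u}}

section Points

variable {X : Scheme.{u}}

theorem eq_bot_of_isField {A : CommRingCat.{u}} [IsDomain A] (h : ∀ q : Spec A, q.asIdeal = ⊥) : IsField A := by
  refine not_not.1 fun hnf => ?_
  obtain ⟨M, hM0, hM⟩ := Ring.not_isField_iff_exists_prime.1 hnf
  exact hM0 (h ⟨M, hM⟩)

/-- The generic point of the local ring at `x`. -/
noncomputable def genι (x : X) : Spec (CommRingCat.of (FractionRing (X.presheaf.stalk x))) ⟶ X :=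
  Spec.map (toFF (X.presheaf.stalk x)) ≫ X.fromSpecStalk x

/-- The image of the generic point of the local ring at `x`. -/
noncomputable def genOf (x : X) [IsDomain (X.presheaf.stalk x)] : X :=
  (X.fromSpecStalk x).base ⟨⊥, Ideal.isPrime_bot⟩

theorem genι_apply (x : X) [IsDomain (X.presheaf.stalk x)]
    (z : Spec (CommRingCat.of (FractionRing (X.presheaf.stalk x)))) : (genι x).base z = genOf x := by
  rw [genι, Scheme.Hom.comp_apply, genOf]
  congr 1
  apply PrimeSpectrum.ext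
  show z.asIdeal.comap (algebraMap _ _) = ⊥
  rw [(Ideal.eq_bot_or_top z.asIdeal).resolve_right z.isPrime.ne_top, ← RingHom.ker_eq_comap_bot,
    (RingHom.injective_iff_ker_eq_bot _).1 (IsFractionRing.injective _ _)]

theorem eq_genOf_of_specializes (x : X) [IsDomain (X.presheaf.stalk x)] {z : X} (hz : FlatH4.IsMaxPt z)
    (h : z ⤳ x) : z = genOf x := by
  obtain ⟨q, rfl⟩ : z ∈ Set.range (X.fromSpecStalk x).base := by rw [Scheme.range_fromSpecStalk]; exact h
  have hs : (⟨⊥, Ideal.isPrime_bot⟩ : Spec (X.presheaf.stalk x)) ⤳ q :=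
    (PrimeSpectrum.le_iff_specializes _ q).1 (show (⊥ : Ideal _) ≤ q.asIdeal from bot_le)
  exact (hz _ (hs.map (X.fromSpecStalk x).continuous)).symm

theorem isMaxPt_genOf (x : X) [IsDomain (X.presheaf.stalk x)] : FlatH4.IsMaxPt (genOf x) := by
  intro y hy
  have hyx : y ⤳ x := by
    refine hy.trans ?_
    have : genOf x ∈ Set.range (X.fromSpecStalk x).base := ⟨_, rfl⟩
    rwa [Scheme.range_fromSpecStalk] at this
  obtain ⟨q, rfl⟩ : y ∈ Set.range (X.fromSpecStalk x).base := by rw [Scheme.range_fromSpecStalk]; exact hyx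
  have := (PrimeSpectrum.le_iff_specializes q _).2 ((X.fromSpecStalk x).isEmbedding.isInducing.specializes_iff.1 hy)
  exact congrArg _ (PrimeSpectrum.ext (le_bot_iff.1 this))

theorem isField_stalk_of_isMaxPt {z : X} [IsDomain (X.presheaf.stalk z)] (hz : FlatH4.IsMaxPt z) :
    IsField (X.presheaf.stalk z) := by
  refine eq_bot_of_isField fun q => ?_
  have h : ∀ q' : Spec (X.presheaf.stalk z), (X.fromSpecStalk z).base q' = z := fun q' => hz _ (by
    have : (X.fromSpecStalk z).base q' ∈ Set.range (X.fromSpecStalk z).base := ⟨q', rfl⟩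
    rwa [Scheme.range_fromSpecStalk] at this)
  have := (X.fromSpecStalk z).isEmbedding.injective ((h q).trans (h ⟨⊥, Ideal.isPrime_bot⟩).symm)
  rw [this]

/-- Every point of a locally noetherian scheme with domain local rings has an open neighbourhood containing
only one maximal point. -/
theorem exists_nhd_unique_isMaxPt [IsLocallyNoetherian X] (x : X) [IsDomain (X.presheaf.stalk x)] :
    ∃ V : X.Opens, x ∈ V ∧ ∀ z ∈ V, FlatH4.IsMaxPt z → z = genOf x := by
  obtain ⟨W, hW, hxW, -⟩ := exists_isAffineOpen_mem_and_subset (X := X) (x := x) (U := ⊤) trivial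
  haveI : IsNoetherianRing Γ(X, W) := IsLocallyNoetherian.component_noetherian ⟨W, hW⟩
  let M : Set X := {z | z ∈ W ∧ FlatH4.IsMaxPt z ∧ z ≠ genOf x}
  have hM : M.Finite := by
    have hfin := (Ideal.finite_minimalPrimes_of_isNoetherianRing Γ(X, W) ⊥)
    have : (PrimeSpectrum.asIdeal ⁻¹' (⊥ : Ideal Γ(X, W)).minimalPrimes : Set (Spec Γ(X, W))).Finite :=
      hfin.preimage (fun a _ b _ h => PrimeSpectrum.ext h)
    refine (this.image hW.fromSpec.base).subset ?_
    rintro z ⟨hzW, hz, -⟩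
    refine ⟨hW.primeIdealOf ⟨z, hzW⟩, ⟨⟨PrimeSpectrum.isPrime _, bot_le⟩, fun P' ⟨hP', _⟩ hle => ?_⟩,
      hW.fromSpec_primeIdealOf ⟨z, hzW⟩⟩
    have hs := ((PrimeSpectrum.le_iff_specializes ⟨P', hP'⟩ (hW.primeIdealOf ⟨z, hzW⟩)).1 hle).map
      hW.fromSpec.continuous
    rw [hW.fromSpec_primeIdealOf] at hs
    have := hW.fromSpec.isOpenEmbedding.injective ((hz _ hs).trans (hW.fromSpec_primeIdealOf ⟨z, hzW⟩).symm)
    exact (congrArg PrimeSpectrum.asIdeal this).ge
  let C : Set X := ⋃ z ∈ M, closure {z}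
  have hC : IsClosed C := hM.isClosed_biUnion fun _ _ => isClosed_closure
  refine ⟨⟨(W : Set X) \ C, W.2.sdiff hC⟩, ⟨hxW, ?_⟩, fun z ⟨hzW, hzC⟩ hz => ?_⟩
  · intro hx
    obtain ⟨z, hz, hzx⟩ := Set.mem_iUnion₂.1 hx
    exact hz.2.2 (eq_genOf_of_specializes x hz.2.1 (specializes_iff_mem_closure.2 hzx))
  · by_contra hne
    exact hzC (Set.mem_iUnion₂.2 ⟨z, ⟨hzW, hz, hne⟩, subset_closure rfl⟩)

/-- Two morphisms from a reduced scheme to a separated one agreeing at all maximal points are equal. -/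
theorem eq_of_forall_isMaxPt [IsReduced X] {Y S : Scheme.{u}} (q : Y ⟶ S) [IsSeparated q] (a b : X ⟶ Y)
    (hS : a ≫ q = b ≫ q) (h : ∀ z : X, FlatH4.IsMaxPt z → X.fromSpecStalk z ≫ a = X.fromSpecStalk z ≫ b) :
    a = b := by
  let ι : (∐ fun z : {z : X // FlatH4.IsMaxPt z} => Spec (X.presheaf.stalk z.1)) ⟶ X :=
    Sigma.desc fun z => X.fromSpecStalk z.1
  haveI : IsDominant ι := by
    refine ⟨fun x => ?_⟩
    obtain ⟨η, hη, hηx⟩ := FlatH4.exists_isMaxPt_specializes x
    refine closure_mono ?_ (specializes_iff_mem_closure.1 hηx)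
    rw [Set.singleton_subset_iff]
    refine ⟨(Sigma.ι (fun z : {z : X // FlatH4.IsMaxPt z} => Spec (X.presheaf.stalk z.1)) ⟨η, hη⟩).base
      (IsLocalRing.closedPoint _), ?_⟩
    rw [← Scheme.Hom.comp_apply, Sigma.ι_desc]
    exact Scheme.fromSpecStalk_closedPoint
  refine ext_of_isDominant_of_isSeparated q hS ι (Sigma.hom_ext _ _ fun z => ?_)
  simp only [ι, Sigma.ι_desc_assoc]
  exact h z.1 z.2

theorem isMaxPt_of_ι {W : X.Opens} {z : (W : Scheme.{u})} (hz : FlatH4.IsMaxPt z) :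
    FlatH4.IsMaxPt (W.ι.base z) := by
  intro y hy
  have hyW : y ∈ W := hy.mem_open W.2 z.2
  exact congrArg W.ι.base (hz ⟨y, hyW⟩ (W.ι.isOpenEmbedding.isInducing.specializes_iff.1 hy))

theorem fromSpecStalk_comp_eq {Y S : Scheme.{u}} (q : Y ⟶ S) [IsSeparated q] (a b : X ⟶ Y)
    (hS : a ≫ q = b ≫ q) (z : X) [IsDomain (X.presheaf.stalk z)] (hz : FlatH4.IsMaxPt z) (K : Type u) [Field K]
    (c : Spec (CommRingCat.of K) ⟶ X) (hcz : c.base (IsLocalRing.closedPoint K) = z) (h : c ≫ a = c ≫ b) :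
    X.fromSpecStalk z ≫ a = X.fromSpecStalk z ≫ b := by
  subst hcz
  letI := (isField_stalk_of_isMaxPt hz).toField
  haveI := WeilEq.isSchemeTheoreticallyDominant_SpecMap _
    (RingHom.injective (Scheme.stalkClosedPointTo c).hom)
  have key := Scheme.Spec_stalkClosedPointTo_fromSpecStalk c
  refine AbRigid.eq_of_comp_eq_of_ker_eq_bot (Spec.map (Scheme.stalkClosedPointTo c)) (Scheme.Hom.ker_eq_bot _)
    q _ _ ?_ ?_
  · simp only [Category.assoc, hS]
  · rw [reassoc_of% key, reassoc_of% key, h]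

end Points

/-- An extension to `Spec O_{X,x}` of the generic germ of a rational map spreads out to a neighbourhood. -/
theorem exists_local_of_stalk_extension (X G : Over (Spec R)) [IsLocallyNoetherian X.left]
    [IsSeparated G.hom] [LocallyOfFiniteType G.hom]
    (hdom : ∀ x : X.left, IsDomain (X.left.presheaf.stalk x))
    (U : X.left.Opens) (f : (U : Scheme.{u}) ⟶ G.left) (hf : f ≫ G.hom = U.ι ≫ X.hom)
    (x : X.left) (σ : ov (rStalk X.hom x) ⟶ G)
    (l : Spec (CommRingCat.of (FractionRing (X.left.presheaf.stalk x))) ⟶ (U : Scheme.{u})) (hl : l ≫ U.ι = genι x)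
    (hσ : Spec.map (toFF _) ≫ σ.left = l ≫ f) :
    ∃ (V : X.left.Opens) (g : (V : Scheme.{u}) ⟶ G.left), x ∈ V ∧ g ≫ G.hom = V.ι ≫ X.hom ∧
      X.left.homOfLE (inf_le_right : U ⊓ V ≤ V) ≫ g = X.left.homOfLE (inf_le_left : U ⊓ V ≤ U) ≫ f := by
  haveI := hdom
  haveI : IsReduced X.left := isReduced_of_isReduced_stalk _
  obtain ⟨V₁, hxV₁, g₁, hg₁, hg₁S⟩ := spread_out_of_isGermInjective' X.hom G.hom σ.left (x := x) (by
    rw [Over.w σ]; exact rStalk_spec _ _)
  obtain ⟨V₂, hxV₂, hV₂⟩ := exists_nhd_unique_isMaxPt x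
  refine ⟨V₁ ⊓ V₂, X.left.homOfLE inf_le_left ≫ g₁, ⟨hxV₁, hxV₂⟩, ?_, ?_⟩
  · rw [Category.assoc, hg₁S, Scheme.homOfLE_ι_assoc]
  let W : X.left.Opens := U ⊓ (V₁ ⊓ V₂)
  haveI : IsReduced (W : Scheme.{u}) := isReduced_of_isOpenImmersion W.ι
  refine eq_of_forall_isMaxPt G.hom _ _ ?_ fun z hz => ?_
  · simp only [Category.assoc, hf, hg₁S, Scheme.homOfLE_ι_assoc]
  have hzx : W.ι.base z = genOf x := hV₂ _ z.2.2.2 (isMaxPt_of_ι hz)
  -- compare at the generic point
  let c : Spec (CommRingCat.of (FractionRing (X.left.presheaf.stalk x))) ⟶ (W : Scheme.{u}) :=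
    IsOpenImmersion.lift W.ι (genι x) (by
      rw [Scheme.Opens.range_ι]; rintro - ⟨w, rfl⟩
      rw [genι_apply, ← hzx]; exact z.2)
  have hc : c ≫ W.ι = genι x := IsOpenImmersion.lift_fac _ _ _
  have hcz : c.base (IsLocalRing.closedPoint (CommRingCat.of (FractionRing (X.left.presheaf.stalk x)))) = z := by
    apply W.ι.isOpenEmbedding.injective
    rw [← Scheme.Hom.comp_apply, hc, genι_apply, hzx]
  have hcU : c ≫ X.left.homOfLE (inf_le_left : W ≤ U) = l := by
    rw [← cancel_mono U.ι, Category.assoc, Scheme.homOfLE_ι, hc, hl]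
  have hcg : c ≫ X.left.homOfLE (inf_le_right : W ≤ V₁ ⊓ V₂) ≫ X.left.homOfLE inf_le_left ≫ g₁ = l ≫ f := by
    rw [← hσ, hg₁]
    simp only [← Category.assoc]
    congr 1
    rw [← cancel_mono V₁.ι]
    simp only [Category.assoc, Scheme.homOfLE_ι, Scheme.Opens.fromSpecStalkOfMem_ι, hc]
    rfl
  haveI : IsDomain ((W : Scheme.{u}).presheaf.stalk z) :=
    MulEquiv.isDomain _ (asIso (W.ι.stalkMap z)).commRingCatIsoToRingEquiv.symm.toMulEquiv
  exact fromSpecStalk_comp_eq G.hom _ _ (by simp only [Category.assoc, hf, hg₁S, Scheme.homOfLE_ι_assoc]) z hz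
    (FractionRing (X.left.presheaf.stalk x)) c hcz (by rw [hcg, reassoc_of% hcU])

/-- The data of a rational map together with the consequences used below. -/
theorem exists_local_extension (X G : Over (Spec R)) [GrpObj G] [Flat X.hom] [IsLocallyNoetherian X.left]
    [IsSeparated G.hom] [LocallyOfFiniteType G.hom]
    (hdom : ∀ x : X.left, IsDomain (X.left.presheaf.stalk x))
    (hP : ∀ P : (pullback X.hom X.hom : Scheme.{u}), IsRegularLocalRing ((pullback X.hom X.hom).presheaf.stalk P))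
    (hS : ∀ s : Spec R, (IsLocalRing.maximalIdeal ((Spec R).presheaf.stalk s)).IsPrincipal)
    (U : X.left.Opens) (hU : Dense (U : Set X.left)) (f : (U : Scheme.{u}) ⟶ G.left) (hf : f ≫ G.hom = U.ι ≫ X.hom)
    (x : X.left)
    (hγ : ∀ γ : ov (rStalk X.hom x ≫ toFF _) ⟶ G,
      (∃ l : Spec (CommRingCat.of (FractionRing (X.left.presheaf.stalk x))) ⟶ (U : Scheme.{u}),
        l ≫ U.ι = genι x ∧ l ≫ f = γ.left) →
      ExtendsInHeightOne G (rStalk X.hom x) (toFF _) γ) :
    ∃ (V : X.left.Opens) (g : (V : Scheme.{u}) ⟶ G.left), x ∈ V ∧ g ≫ G.hom = V.ι ≫ X.hom ∧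
      X.left.homOfLE (inf_le_right : U ⊓ V ≤ V) ≫ g = X.left.homOfLE (inf_le_left : U ⊓ V ≤ U) ≫ f := by
  haveI := hdom
  haveI : IsReduced X.left := isReduced_of_isReduced_stalk _
  have hmem : genOf x ∈ U := (isMaxPt_genOf x).mem_of_dense U.2 hU
  let l : Spec (CommRingCat.of (FractionRing (X.left.presheaf.stalk x))) ⟶ (U : Scheme.{u}) :=
    IsOpenImmersion.lift U.ι (genι x) (by
      rw [Scheme.Opens.range_ι]; rintro - ⟨z, rfl⟩
      rw [genι_apply]; exact hmem)
  have hl : l ≫ U.ι = genι x := IsOpenImmersion.lift_fac _ _ _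
  let γ : ov (rStalk X.hom x ≫ toFF _) ⟶ G := Over.homMk (l ≫ f) (by
    show (l ≫ f) ≫ G.hom = Spec.map _
    rw [Category.assoc, hf, reassoc_of% hl, genι, Category.assoc, Spec.map_comp, rStalk_spec])
  haveI := hP ((pullback.diagonal X.hom).base x)
  haveI := RegLoc.isDomain ((pullback X.hom X.hom).presheaf.stalk ((pullback.diagonal X.hom).base x))
  haveI := RegLoc.ufd_of_isRegularLocalRing ((pullback X.hom X.hom).presheaf.stalk ((pullback.diagonal X.hom).base x))
  obtain ⟨σ, hσ⟩ := exists_extension_stalk X G x (hS _) γ (hγ γ ⟨l, hl, rfl⟩)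
  exact exists_local_of_stalk_extension X G hdom U f hf x σ l hl congr(($hσ).left)

/-- Local extensions of a rational map agree, hence glue. -/
theorem exists_glue (X G : Over (Spec R)) [IsReduced X.left] [IsSeparated G.hom] {J : Type u}
    (U : X.left.Opens) (hU : Dense (U : Set X.left)) (f : (U : Scheme.{u}) ⟶ G.left)
    (V : J → X.left.Opens) (hV : ∀ x : X.left, ∃ j, x ∈ V j) (g : ∀ j, (V j : Scheme.{u}) ⟶ G.left)
    (hgS : ∀ j, g j ≫ G.hom = (V j).ι ≫ X.hom)
    (hgf : ∀ j, X.left.homOfLE (inf_le_right : U ⊓ V j ≤ V j) ≫ g j =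
      X.left.homOfLE (inf_le_left : U ⊓ V j ≤ U) ≫ f) :
    ∃! g : X.left ⟶ G.left, g ≫ G.hom = X.hom ∧ U.ι ≫ g = f := by
  haveI : IsDominant U.ι := ⟨by rw [DenseRange, Scheme.Opens.range_ι]; exact hU⟩
  let 𝒰 := X.left.openCoverOfIsOpenCover V (by
    rw [IsOpenCover, eq_top_iff]
    exact fun x _ => Opens.mem_iSup.2 (hV x))
  have hglue : ∀ x y, pullback.fst (V x).ι (V y).ι ≫ g x = pullback.snd (V x).ι (V y).ι ≫ g y := fun x y => by
    let T := pullback (V x).ι (V y).ι
    let t : T ⟶ X.left := pullback.fst (V x).ι (V y).ι ≫ (V x).ι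
    haveI : IsReduced T := isReduced_of_isOpenImmersion t
    let UT : T.Opens := t ⁻¹ᵁ U
    haveI : IsDominant UT.ι := ⟨by
      rw [DenseRange, Scheme.Opens.range_ι]
      exact hU.preimage t.isOpenEmbedding.isOpenMap⟩
    refine ext_of_isDominant_of_isSeparated G.hom ?_ UT.ι ?_
    · rw [Category.assoc, Category.assoc, hgS, hgS, ← Category.assoc, pullback.condition, Category.assoc]
    · let mx : (UT : Scheme.{u}) ⟶ (U ⊓ V x : X.left.Opens) :=
        IsOpenImmersion.lift (U ⊓ V x).ι (UT.ι ≫ t) (by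
          rw [Scheme.Opens.range_ι]; rintro - ⟨w, rfl⟩
          exact ⟨w.2, ((pullback.fst (V x).ι (V y).ι).base w.1).2⟩)
      let my : (UT : Scheme.{u}) ⟶ (U ⊓ V y : X.left.Opens) :=
        IsOpenImmersion.lift (U ⊓ V y).ι (UT.ι ≫ t) (by
          rw [Scheme.Opens.range_ι]; rintro - ⟨w, rfl⟩
          refine ⟨w.2, ?_⟩
          show (UT.ι ≫ t).base w ∈ V y
          simp only [t, pullback.condition]
          exact ((pullback.snd (V x).ι (V y).ι).base w.1).2)
      have ex : UT.ι ≫ pullback.fst (V x).ι (V y).ι = mx ≫ X.left.homOfLE inf_le_right := by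
        rw [← cancel_mono (V x).ι, Category.assoc, Category.assoc, Scheme.homOfLE_ι, IsOpenImmersion.lift_fac]
      have ey : UT.ι ≫ pullback.snd (V x).ι (V y).ι = my ≫ X.left.homOfLE inf_le_right := by
        rw [← cancel_mono (V y).ι, Category.assoc, Category.assoc, Scheme.homOfLE_ι, IsOpenImmersion.lift_fac]
        simp only [t, pullback.condition]
      have exy : mx ≫ X.left.homOfLE (inf_le_left : U ⊓ V x ≤ U) = my ≫ X.left.homOfLE inf_le_left := by
        rw [← cancel_mono U.ι, Category.assoc, Category.assoc, Scheme.homOfLE_ι, Scheme.homOfLE_ι,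
          IsOpenImmersion.lift_fac, IsOpenImmersion.lift_fac]
      rw [reassoc_of% ex, reassoc_of% ey, hgf, hgf, reassoc_of% exy]
  let G₀ : X.left ⟶ G.left := 𝒰.glueMorphisms g hglue
  have hG : ∀ x, (V x).ι ≫ G₀ = g x := fun x => 𝒰.ι_glueMorphisms g hglue x
  have hGS : G₀ ≫ G.hom = X.hom := 𝒰.hom_ext _ _ fun x => by
    show (V x).ι ≫ G₀ ≫ G.hom = (V x).ι ≫ X.hom
    rw [reassoc_of% hG x, hgS]
  have hfG : U.ι ≫ G₀ = f := by
    let 𝒰U := (U : Scheme.{u}).openCoverOfIsOpenCover (fun x => U.ι ⁻¹ᵁ V x) (by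
      rw [IsOpenCover, eq_top_iff]
      exact fun x _ => Opens.mem_iSup.2 (hV (U.ι.base x)))
    refine 𝒰U.hom_ext _ _ fun x => ?_
    show (U.ι ⁻¹ᵁ V x).ι ≫ U.ι ≫ G₀ = (U.ι ⁻¹ᵁ V x).ι ≫ f
    let m : ((U.ι ⁻¹ᵁ V x : (U : Scheme.{u}).Opens) : Scheme.{u}) ⟶ (U ⊓ V x : X.left.Opens) :=
      IsOpenImmersion.lift (U ⊓ V x).ι ((U.ι ⁻¹ᵁ V x).ι ≫ U.ι) (by
        rw [Scheme.Opens.range_ι]; rintro - ⟨w, rfl⟩; exact ⟨w.1.2, w.2⟩)
    have e1 : (U.ι ⁻¹ᵁ V x).ι ≫ U.ι = m ≫ X.left.homOfLE inf_le_right ≫ (V x).ι := by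
      rw [Scheme.homOfLE_ι, IsOpenImmersion.lift_fac]
    have e2 : m ≫ X.left.homOfLE inf_le_left = (U.ι ⁻¹ᵁ V x).ι := by
      rw [← cancel_mono U.ι, Category.assoc, Scheme.homOfLE_ι, IsOpenImmersion.lift_fac]
    rw [reassoc_of% e1, hG, hgf, reassoc_of% e2]
  exact ⟨G₀, ⟨hGS, hfG⟩, fun g' ⟨hS', hf'⟩ =>
    ext_of_isDominant_of_isSeparated G.hom (hS'.trans hGS.symm) U.ι (hf'.trans hfG.symm)⟩

/-- **Weil extension**: a rational map from `X` into a separated group scheme which extends in height one is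
defined everywhere. -/
theorem exists_extension_global (X G : Over (Spec R)) [GrpObj G] [Flat X.hom] [IsLocallyNoetherian X.left]
    [IsSeparated G.hom] [LocallyOfFiniteType G.hom]
    (hdom : ∀ x : X.left, IsDomain (X.left.presheaf.stalk x))
    (hP : ∀ P : (pullback X.hom X.hom : Scheme.{u}), IsRegularLocalRing ((pullback X.hom X.hom).presheaf.stalk P))
    (hS : ∀ s : Spec R, (IsLocalRing.maximalIdeal ((Spec R).presheaf.stalk s)).IsPrincipal)
    (U : X.left.Opens) (hU : Dense (U : Set X.left)) (f : (U : Scheme.{u}) ⟶ G.left) (hf : f ≫ G.hom = U.ι ≫ X.hom)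
    (hγ : ∀ (x : X.left) (γ : ov (rStalk X.hom x ≫ toFF _) ⟶ G),
      (∃ l : Spec (CommRingCat.of (FractionRing (X.left.presheaf.stalk x))) ⟶ (U : Scheme.{u}),
        l ≫ U.ι = genι x ∧ l ≫ f = γ.left) →
      ExtendsInHeightOne G (rStalk X.hom x) (toFF _) γ) :
    ∃! g : X.left ⟶ G.left, g ≫ G.hom = X.hom ∧ U.ι ≫ g = f := by
  haveI := hdom
  haveI : IsReduced X.left := isReduced_of_isReduced_stalk _
  choose V g hxV hgS hgf using fun x => exists_local_extension X G hdom hP hS U hU f hf x (hγ x)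
  exact exists_glue X G U hU f V (fun x => ⟨x, hxV x⟩) g hgS hgf

end Groth.Agent.WeilExt
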