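import Groth.Agent.Lib.WeilExt.MaxPts
import Groth.Prelude.Def_Neron
import Mathlib.AlgebraicGeometry.Morphisms.Preimmersion

/-!
# Maps on generic fibres of smooth schemes into proper group schemes extend
-/

universe u

open CategoryTheory Limits AlgebraicGeometry TopologicalSpace

namespace Groth.Agent.WeilExt

variable {A : Type u} [CommRing A] [IsDedekindDomain A]

theorem rStalk_injective_of_isMaxPt {X : Scheme.{u}} (p : X ⟶ Spec (CommRingCat.of A)) [Flat p] (z : X)
    [IsDomain (X.presheaf.stalk z)] (hz : FlatH4.IsMaxPt z) : Function.Injective (rStalk p z).hom := by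
  have hmax := hz.map_of_flat p
  have h0 : p.base z = (⟨⊥, Ideal.isPrime_bot⟩ : PrimeSpectrum A) := by
    refine (hmax _ ?_).symm
    exact (PrimeSpectrum.le_iff_specializes (R := A) ⟨⊥, Ideal.isPrime_bot⟩ _).1 (show (⊥ : Ideal A) ≤ _ from bot_le)
  have h1 : (Spec.map (rStalk p z)).base (IsLocalRing.closedPoint _) = p.base z := by
    rw [rStalk_spec, Scheme.Hom.comp_apply, Scheme.fromSpecStalk_closedPoint]
  rw [RingHom.injective_iff_ker_eq_bot]
  have h2 := congrArg PrimeSpectrum.asIdeal (h1.trans h0)
  rw [← le_bot_iff]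
  intro a ha
  have : a ∈ ((Spec.map (rStalk p z)).base (IsLocalRing.closedPoint (X.presheaf.stalk z))).asIdeal := by
    show (rStalk p z).hom a ∈ IsLocalRing.maximalIdeal _
    rw [RingHom.mem_ker.1 ha]
    exact zero_mem _
  rwa [h2] at this

theorem exists_genPt_lift {X : Scheme.{u}} (p : X ⟶ Spec (CommRingCat.of A)) [Flat p] (z : X)
    [IsDomain (X.presheaf.stalk z)] (hz : FlatH4.IsMaxPt z) :
    ∃ l : Spec (X.presheaf.stalk z) ⟶ pullback p (Neron.genPt A), l ≫ pullback.fst _ _ = X.fromSpecStalk z := by
  letI := (isField_stalk_of_isMaxPt hz).toField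
  let ψ : CommRingCat.of (FractionRing A) ⟶ X.presheaf.stalk z :=
    CommRingCat.ofHom (IsFractionRing.lift (g := (rStalk p z).hom) (rStalk_injective_of_isMaxPt p z hz))
  refine ⟨pullback.lift (X.fromSpecStalk z) (Spec.map ψ) ?_, pullback.lift_fst _ _ _⟩
  rw [← rStalk_spec, Neron.genPt, ← Spec.map_comp]
  congr 1
  ext a
  exact (IsFractionRing.lift_algebraMap (g := (rStalk p z).hom) (rStalk_injective_of_isMaxPt p z hz) a).symm

instance isPreimmersion_genPt : IsPreimmersion (Neron.genPt A) :=
  IsPreimmersion.of_isLocalization (nonZeroDivisors A)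

theorem isMaxPt_fst {X : Scheme.{u}} (p : X ⟶ Spec (CommRingCat.of A)) [Flat p]
    {w : (pullback p (Neron.genPt A) : Scheme.{u})} (hw : FlatH4.IsMaxPt w) :
    FlatH4.IsMaxPt ((pullback.fst p (Neron.genPt A)).base w) := by
  haveI : IsPreimmersion (pullback.fst p (Neron.genPt A)) := MorphismProperty.pullback_fst _ _ inferInstance
  intro y hy
  have hrange : y ∈ Set.range (pullback.fst p (Neron.genPt A)).base := by
    rw [Scheme.Pullback.range_fst]
    have h1 := hy.map p.continuous
    have h2 : p.base ((pullback.fst p (Neron.genPt A)).base w) = (Neron.genPt A).base ((pullback.snd p (Neron.genPt A)).base w) := by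
      rw [← Scheme.Hom.comp_apply, pullback.condition, Scheme.Hom.comp_apply]
    rw [h2] at h1
    refine ⟨⟨⊥, Ideal.isPrime_bot⟩, ?_⟩
    have e : ∀ v : Spec (CommRingCat.of (FractionRing A)), (Neron.genPt A).base v = (⟨⊥, Ideal.isPrime_bot⟩ : PrimeSpectrum A) :=
      fun v => by
        apply PrimeSpectrum.ext
        show v.asIdeal.comap (algebraMap A (FractionRing A)) = ⊥
        rw [(Ideal.eq_bot_or_top v.asIdeal).resolve_right v.isPrime.ne_top, ← RingHom.ker_eq_comap_bot,
          (RingHom.injective_iff_ker_eq_bot _).1 (IsFractionRing.injective _ _)]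
    rw [e] at h1 ⊢
    have h3 := (PrimeSpectrum.le_iff_specializes (R := A) (p.base y) ⟨⊥, Ideal.isPrime_bot⟩).2 h1
    exact PrimeSpectrum.ext (le_antisymm bot_le (show (p.base y).asIdeal ≤ (⊥ : Ideal A) from h3))
  obtain ⟨v, rfl⟩ := hrange
  rw [hw v ((pullback.fst p (Neron.genPt A)).isEmbedding.isInducing.specializes_iff.1 hy)]

/-- A map on generic fibres from a smooth scheme into a proper group scheme extends uniquely. -/
theorem exists_extension_genericFibre (X G : Over (Spec (CommRingCat.of A))) [GrpObj G] [Smooth X.hom] [IsProper G.hom]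
    (u : pullback X.hom (Neron.genPt A) ⟶ pullback G.hom (Neron.genPt A))
    (hu : u ≫ pullback.snd _ _ = pullback.snd _ _) :
    ∃! g : X.left ⟶ G.left, g ≫ G.hom = X.hom ∧ pullback.fst _ _ ≫ g = u ≫ pullback.fst _ _ := by
  haveI : IsLocallyNoetherian X.left := LocallyOfFiniteType.isLocallyNoetherian X.hom
  haveI := isDomain_stalk_of_smooth X.hom
  choose l hl using fun (z : X.left) (hz : FlatH4.IsMaxPt z) => exists_genPt_lift X.hom z hz
  obtain ⟨g, ⟨hg, hgφ⟩, huniq⟩ := exists_extension_of_maxPts X G (fun z hz => l z hz ≫ u ≫ pullback.fst _ _)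
    (fun z hz => by
      simp only [Category.assoc, pullback.condition, reassoc_of% hu]
      rw [← reassoc_of% hl z hz, pullback.condition])
  refine ⟨g, ⟨hg, ?_⟩, fun g' ⟨hS', h'⟩ => huniq g' ⟨hS', fun z hz => ?_⟩⟩
  · haveI : Smooth (pullback.snd X.hom (Neron.genPt A)) := inferInstance
    haveI : IsLocallyNoetherian (pullback X.hom (Neron.genPt A)) :=
      LocallyOfFiniteType.isLocallyNoetherian (pullback.snd X.hom (Neron.genPt A))
    haveI := isDomain_stalk_of_smooth (pullback.snd X.hom (Neron.genPt A))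
    haveI : IsReduced (pullback X.hom (Neron.genPt A)) := isReduced_of_isReduced_stalk _
    refine eq_of_forall_isMaxPt G.hom _ _ ?_ fun w hw => ?_
    · simp only [Category.assoc, hg, pullback.condition, reassoc_of% hu]
    · let z := (pullback.fst X.hom (Neron.genPt A)).base w
      have hz : FlatH4.IsMaxPt z := isMaxPt_fst X.hom hw
      letI := (isField_stalk_of_isMaxPt hz).toField
      haveI : IsPreimmersion (pullback.fst X.hom (Neron.genPt A)) := MorphismProperty.pullback_fst _ _ inferInstance
      refine fromSpecStalk_comp_eq G.hom _ _ ?_ w hw (X.left.presheaf.stalk z) (l z hz) ?_ ?_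
      · simp only [Category.assoc, hg, pullback.condition, reassoc_of% hu]
      · apply (pullback.fst X.hom (Neron.genPt A)).isEmbedding.injective
        rw [← Scheme.Hom.comp_apply, hl]
        exact Scheme.fromSpecStalk_closedPoint
      · rw [reassoc_of% hl z hz, hgφ z hz]
  · rw [← hl z hz, Category.assoc, h']

end Groth.Agent.WeilExt
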