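import Groth.Agent.Lib.WeilExt.Global
import Mathlib.RingTheory.DedekindDomain.Dvr
import Mathlib.AlgebraicGeometry.Morphisms.Proper

/-!
# Weil's extension theorem over a Dedekind domain or a field
-/

universe u

open CategoryTheory Limits AlgebraicGeometry TopologicalSpace

namespace Groth.Agent.WeilExt

variable {A : Type u} [CommRing A] [IsDedekindDomain A]

theorem isPrincipalIdealRing_atPrime (P : Ideal A) [P.IsPrime] : IsPrincipalIdealRing (Localization.AtPrime P) := by
  by_cases h0 : P = ⊥
  · subst h0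
    have : IsField (Localization.AtPrime (⊥ : Ideal A)) := by
      rw [IsLocalRing.isField_iff_maximalIdeal_eq, ← Localization.AtPrime.map_eq_maximalIdeal, Ideal.map_bot]
    letI := this.toField
    infer_instance
  · haveI := IsLocalization.AtPrime.isDiscreteValuationRing_of_dedekind_domain A h0 (Localization.AtPrime P)
    infer_instance

theorem isPrincipal_maximalIdeal_stalk (s : Spec (CommRingCat.of A)) :
    (IsLocalRing.maximalIdeal ((Spec (CommRingCat.of A)).presheaf.stalk s)).IsPrincipal := by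
  have h := isPrincipalIdealRing_atPrime (A := A) (PrimeSpectrum.asIdeal (R := A) s)
  haveI := h
  haveI : IsPrincipalIdealRing ((Spec (CommRingCat.of A)).presheaf.stalk s) :=
    IsPrincipalIdealRing.of_surjective (Spec.stalkIso (CommRingCat.of A) s).symm.commRingCatIsoToRingEquiv.toRingHom
      (Spec.stalkIso (CommRingCat.of A) s).symm.commRingCatIsoToRingEquiv.surjective
  exact IsPrincipalIdealRing.principal _

theorem isRegularLocalRing_stalk_of_smooth {X : Scheme.{u}} (p : X ⟶ Spec (CommRingCat.of A)) [Smooth p] (x : X) :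
    IsRegularLocalRing (X.presheaf.stalk x) :=
  isRegularLocalRing_of_smooth p (fun s => isRegularLocalRing_stalk_Spec (CommRingCat.of A) s) x

theorem isDomain_stalk_of_smooth {X : Scheme.{u}} (p : X ⟶ Spec (CommRingCat.of A)) [Smooth p] (x : X) :
    IsDomain (X.presheaf.stalk x) :=
  haveI := isRegularLocalRing_stalk_of_smooth p x
  RegLoc.isDomain _

theorem exists_extension_smooth (X G : Over (Spec (CommRingCat.of A))) [GrpObj G] [Smooth X.hom]
    [IsSeparated G.hom] [LocallyOfFiniteType G.hom]
    (U : X.left.Opens) (hU : Dense (U : Set X.left)) (f : (U : Scheme.{u}) ⟶ G.left) (hf : f ≫ G.hom = U.ι ≫ X.hom)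
    (hγ : ∀ (x : X.left) (γ : ov (rStalk X.hom x ≫ toFF _) ⟶ G),
      (∃ l : Spec (CommRingCat.of (FractionRing (X.left.presheaf.stalk x))) ⟶ (U : Scheme.{u}),
        l ≫ U.ι = genι x ∧ l ≫ f = γ.left) →
      ExtendsInHeightOne G (rStalk X.hom x) (toFF _) γ) :
    ∃! g : X.left ⟶ G.left, g ≫ G.hom = X.hom ∧ U.ι ≫ g = f := by
  haveI : IsLocallyNoetherian X.left := LocallyOfFiniteType.isLocallyNoetherian X.hom
  haveI : Smooth (pullback.fst X.hom X.hom ≫ X.hom) := inferInstance
  exact exists_extension_global X G (isDomain_stalk_of_smooth X.hom)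
    (fun P => isRegularLocalRing_stalk_of_smooth (pullback.fst X.hom X.hom ≫ X.hom) P)
    isPrincipal_maximalIdeal_stalk U hU f hf hγ

/-- A rational map from a smooth scheme into a proper group scheme is everywhere defined. -/
theorem exists_extension_of_isProper (X G : Over (Spec (CommRingCat.of A))) [GrpObj G] [Smooth X.hom] [IsProper G.hom]
    (U : X.left.Opens) (hU : Dense (U : Set X.left)) (f : (U : Scheme.{u}) ⟶ G.left) (hf : f ≫ G.hom = U.ι ≫ X.hom) :
    ∃! g : X.left ⟶ G.left, g ≫ G.hom = X.hom ∧ U.ι ≫ g = f :=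
  exists_extension_smooth X G U hU f hf fun x γ _ =>
    haveI := isRegularLocalRing_stalk_of_smooth X.hom x
    haveI := isDomain_stalk_of_smooth X.hom x
    extendsInHeightOne_of_isProper G (rStalk X.hom x) γ

theorem ringKrullDim_stalk_fromSpecStalk {X : Scheme.{u}} (x : X) (p : Spec (X.presheaf.stalk x)) :
    ringKrullDim (X.presheaf.stalk ((X.fromSpecStalk x).base p)) = p.asIdeal.height := by
  obtain ⟨W, hW, hxW, -⟩ := exists_isAffineOpen_mem_and_subset (X := X) (x := x) (U := ⊤) trivial
  letI := X.presheaf.algebra_section_stalk ⟨x, hxW⟩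
  haveI := hW.isLocalization_stalk ⟨x, hxW⟩
  let P : Spec Γ(X, W) := (Spec.map (X.presheaf.germ W x hxW)).base p
  have hy : (X.fromSpecStalk x).base p = hW.fromSpec.base P := by
    rw [← hW.fromSpecStalk_eq_fromSpecStalk hxW, IsAffineOpen.fromSpecStalk, Scheme.Hom.comp_apply]
  rw [hy]
  have hyW : hW.fromSpec.base P ∈ W := hW.range_fromSpec.le ⟨P, rfl⟩
  letI := X.presheaf.algebra_section_stalk ⟨_, hyW⟩
  haveI := hW.isLocalization_stalk ⟨_, hyW⟩
  rw [IsLocalization.AtPrime.ringKrullDim_eq_height (hW.primeIdealOf ⟨_, hyW⟩).asIdeal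
    (X.presheaf.stalk (hW.fromSpec.base P))]
  rw [hW.fromSpec.isOpenEmbedding.injective (hW.fromSpec_primeIdealOf ⟨_, hyW⟩)]
  rw [← IsLocalization.height_under (hW.primeIdealOf ⟨x, hxW⟩).asIdeal.primeCompl p.asIdeal]
  rfl

/-- A rational map from a smooth scheme into a separated group scheme, defined at all points of
codimension at most one, is everywhere defined. -/
theorem exists_extension_of_codim (X G : Over (Spec (CommRingCat.of A))) [GrpObj G] [Smooth X.hom]
    [IsSeparated G.hom] [LocallyOfFiniteType G.hom]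
    (U : X.left.Opens) (hU : Dense (U : Set X.left))
    (hcodim : ∀ y : X.left, ringKrullDim (X.left.presheaf.stalk y) ≤ 1 → y ∈ U)
    (f : (U : Scheme.{u}) ⟶ G.left) (hf : f ≫ G.hom = U.ι ≫ X.hom) :
    ∃! g : X.left ⟶ G.left, g ≫ G.hom = X.hom ∧ U.ι ≫ g = f := by
  refine exists_extension_smooth X G U hU f hf fun x γ hγl p _ hp => ?_
  obtain ⟨l, hl, hlf⟩ := hγl
  haveI := isDomain_stalk_of_smooth X.hom x
  let O := X.left.presheaf.stalk x
  let jp : loc O p ⟶ CommRingCat.of (FractionRing O) :=
    CommRingCat.ofHom (algebraMap (Localization.AtPrime p) (FractionRing O))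
  have hjp : toLoc O p ≫ jp = toFF O := by
    ext a
    exact (IsScalarTower.algebraMap_apply O (Localization.AtPrime p) (FractionRing O) a).symm
  let s : Spec (loc O p) ⟶ X.left := Spec.map (toLoc O p) ≫ X.left.fromSpecStalk x
  have hcl : s.base (IsLocalRing.closedPoint (Localization.AtPrime p)) ∈ U := by
    apply hcodim
    rw [Scheme.Hom.comp_apply, ringKrullDim_stalk_fromSpecStalk]
    have : ((Spec.map (toLoc O p)).base (IsLocalRing.closedPoint (Localization.AtPrime p))).asIdeal = p :=
      Localization.AtPrime.under_maximalIdeal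
    rw [this]
    exact WithBot.coe_le_coe.2 hp
  let σ₀ : Spec (loc O p) ⟶ (U : Scheme.{u}) := IsOpenImmersion.lift U.ι s (by
    rw [Scheme.Opens.range_ι]
    rintro - ⟨z, rfl⟩
    exact ((IsLocalRing.specializes_closedPoint z).map s.continuous).mem_open U.2 hcl)
  have hσ₀ : σ₀ ≫ U.ι = s := IsOpenImmersion.lift_fac _ _ _
  refine ⟨jp, hjp, Over.homMk (σ₀ ≫ f) ?_, ?_⟩
  · show (σ₀ ≫ f) ≫ G.hom = Spec.map _
    rw [Category.assoc, hf, reassoc_of% hσ₀, Spec.map_comp, rStalk_spec, Category.assoc]
  · ext1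
    simp only [Over.comp_left, ovMap_left, Over.homMk_left]
    rw [← hlf, ← Category.assoc]
    congr 1
    rw [← cancel_mono U.ι, Category.assoc, hσ₀, hl, ← Spec.map_comp_assoc, hjp]
    rfl

end Groth.Agent.WeilExt
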