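import Groth.Agent.Lib.WeilExt.Local
import Groth.Agent.Lib.RegLoc.GlobalDim
import Groth.Agent.Lib.RegLoc.Basic
import Mathlib.AlgebraicGeometry.ValuativeCriterion
import Mathlib.RingTheory.DiscreteValuationRing.TFAE

/-!
# Maps into proper schemes extend in height at most one
-/

universe u

open CategoryTheory Limits AlgebraicGeometry IsLocalRing

namespace Groth.Agent.WeilExt

variable {R : CommRingCat.{u}}

theorem valuationRing_of_height_le_one (O : Type u) [CommRing O] [IsRegularLocalRing O] [IsDomain O]
    (p : Ideal O) [p.IsPrime] (hp : p.height ≤ 1) : ValuationRing (Localization.AtPrime p) := by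
  haveI := RegLoc.isRegularLocalRing_localization O p
  haveI : IsNoetherianRing (Localization.AtPrime p) := inferInstance
  haveI : IsDomain (Localization.AtPrime p) := IsLocalization.isDomain_localization p.primeCompl_le_nonZeroDivisors
  refine ((tfae_of_isNoetherianRing_of_isLocalRing_of_isDomain (Localization.AtPrime p)).out 1 5).2 ?_
  have h1 := (IsRegularLocalRing.iff_finrank_cotangentSpace (Localization.AtPrime p)).1 inferInstance
  rw [IsLocalization.AtPrime.ringKrullDim_eq_height p (Localization.AtPrime p)] at h1
  have h2 : ((Module.finrank (ResidueField (Localization.AtPrime p)) (CotangentSpace (Localization.AtPrime p)) : ℕ∞) :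
      WithBot ℕ∞) ≤ ((1 : ℕ∞) : WithBot ℕ∞) := by
    rw [show ((Module.finrank (ResidueField (Localization.AtPrime p)) (CotangentSpace (Localization.AtPrime p)) : ℕ∞) :
      WithBot ℕ∞) = (Module.finrank (ResidueField (Localization.AtPrime p))
        (CotangentSpace (Localization.AtPrime p)) : WithBot ℕ∞) from rfl, h1]
    exact WithBot.coe_le_coe.2 hp
  exact_mod_cast WithBot.coe_le_coe.1 h2

theorem exists_lift_valuationRing {G : Over (Spec R)} [IsProper G.hom] {V K : CommRingCat.{u}} [IsDomain V]
    [ValuationRing V] (hK : IsField K) (j : V ⟶ K) (hj : @IsFractionRing V _ K _ j.hom.toAlgebra)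
    (rV : R ⟶ V) (rK : R ⟶ K) (h : rV ≫ j = rK) (γ : ov rK ⟶ G) :
    ∃ σ : ov rV ⟶ G, ovMap j h ≫ σ = γ := by
  letI := hK.toField
  letI := j.hom.toAlgebra
  haveI := hj
  have hprop : ValuativeCriterion G.hom := by
    have h' := IsProper.eq_valuativeCriterion.{u}
    have hG : (ValuativeCriterion ⊓ @QuasiCompact ⊓ @QuasiSeparated ⊓ @LocallyOfFiniteType : MorphismProperty Scheme) G.hom := by
      rw [← h']; infer_instance
    exact hG.1.1.1
  let S : ValuativeCommSq G.hom :=
    { R := V, K := K, i₁ := γ.left, i₂ := Spec.map rV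
      commSq := ⟨by
        rw [Over.w γ]
        show Spec.map rK = _
        rw [← Spec.map_comp]
        exact congrArg Spec.map h.symm⟩ }
  obtain ⟨⟨l⟩⟩ := hprop.existence S
  refine ⟨Over.homMk l.l l.fac_right, ?_⟩
  ext1
  simp only [Over.comp_left, ovMap_left, Over.homMk_left]
  exact l.fac_left

theorem extendsInHeightOne_of_isProper {O : CommRingCat.{u}} [IsRegularLocalRing O] [IsDomain O]
    (G : Over (Spec R)) [IsProper G.hom] (r : R ⟶ O) (γ : ov (r ≫ toFF O) ⟶ G) :
    ExtendsInHeightOne G r (toFF O) γ := by
  intro p _ hp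
  let jp : loc O p ⟶ CommRingCat.of (FractionRing O) :=
    CommRingCat.ofHom (algebraMap (Localization.AtPrime p) (FractionRing O))
  have hjp : toLoc O p ≫ jp = toFF O := by
    ext a
    exact (IsScalarTower.algebraMap_apply O (Localization.AtPrime p) (FractionRing O) a).symm
  haveI : IsDomain (loc O p) := IsLocalization.isDomain_localization p.primeCompl_le_nonZeroDivisors
  haveI : ValuationRing (loc O p) := valuationRing_of_height_le_one O p hp
  have hfr : @IsFractionRing (loc O p) _ (CommRingCat.of (FractionRing O)) _ jp.hom.toAlgebra := by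
    have : jp.hom.toAlgebra = (inferInstance : Algebra (Localization.AtPrime p) (FractionRing O)) :=
      Algebra.algebra_ext _ _ fun _ => rfl
    rw [this]
    exact inferInstanceAs (IsFractionRing (Localization.AtPrime p) (FractionRing O))
  obtain ⟨σ, hσ⟩ := exists_lift_valuationRing (Field.toIsField (FractionRing O)) jp hfr (r ≫ toLoc O p) (r ≫ toFF O)
    (by rw [Category.assoc, hjp]) γ
  exact ⟨jp, hjp, σ, hσ⟩

end Groth.Agent.WeilExt
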