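import Mathlib.AlgebraicGeometry.AffineScheme
import Mathlib.AlgebraicGeometry.Stalk
import Mathlib.RingTheory.UniqueFactorizationDomain.Basic
import Mathlib.RingTheory.Localization.NumDen
import Mathlib.RingTheory.Ideal.KrullsHeightTheorem
import Mathlib.RingTheory.Flat.FaithfullyFlat.Algebra
import Mathlib.RingTheory.RingHom.FaithfullyFlat

/-!
# Auxiliary lemmas for the extension of rational maps into groups
-/

universe u

open CategoryTheory AlgebraicGeometry

namespace Groth.Agent.WeilExt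

theorem mem_range_of_forall_height_le_one {O A L : Type u} [CommRing O] [IsNoetherianRing O] [CommRing A]
    [IsDomain A] [UniqueFactorizationMonoid A] [Field L] [Algebra A L] [IsFractionRing A L]
    (δ : A →+* O) [IsLocalHom δ] (z : L)
    (h : ∀ (p : Ideal O) [p.IsPrime], p.height ≤ 1 →
      ∃ c d : A, δ d ∉ p ∧ z * algebraMap A L d = algebraMap A L c) :
    z ∈ Set.range (algebraMap A L) := by
  obtain ⟨a, b, hab, hz⟩ := IsFractionRing.exists_reduced_fraction (A := A) z
  have hb0 : (b : A) ≠ 0 := nonZeroDivisors.coe_ne_zero b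
  have hzb : z * algebraMap A L b = algebraMap A L a := by rw [← hz, IsLocalization.mk'_spec]
  by_cases hbu : IsUnit (b : A)
  · obtain ⟨u, hu⟩ := hbu
    refine ⟨a * (↑u⁻¹ : A), ?_⟩
    rw [map_mul, ← hzb, mul_assoc, ← map_mul, ← hu, Units.mul_inv, map_one, mul_one]
  exfalso
  obtain ⟨π, hπ, hπb⟩ := WfDvdMonoid.exists_irreducible_factor hbu hb0
  have hπp : Prime π := UniqueFactorizationMonoid.irreducible_iff_prime.1 hπ
  have hne : Ideal.span {δ π} ≠ ⊤ := by
    rw [Ne, Ideal.span_singleton_eq_top]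
    exact fun hu => hπ.not_isUnit (isUnit_of_map_unit δ _ hu)
  obtain ⟨p, hp⟩ := (Ideal.span {δ π}).nonempty_minimalPrimes hne
  haveI : p.IsPrime := hp.1.1
  obtain ⟨c, d, hd, hcd⟩ := h p (Ideal.height_le_one_of_isPrincipal_of_mem_minimalPrimes _ p hp)
  have heq : a * d = c * b := by
    apply IsFractionRing.injective A L
    rw [map_mul, map_mul, ← hzb, ← hcd]
    ring
  have hdvd : π ∣ a * d := heq ▸ dvd_mul_of_dvd_right hπb c
  rcases hπp.dvd_or_dvd hdvd with h1 | h1
  · exact hπ.not_isUnit (hab h1 hπb)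
  · exact hd (p.mem_of_dvd (map_dvd δ h1) (hp.1.2 (Ideal.subset_span rfl)))

theorem dvd_of_dvd_map {O B : Type u} [CommRing O] [CommRing B] (f : O →+* B)
    (hf : f.FaithfullyFlat) {c d : O} (h : f d ∣ f c) : d ∣ c := by
  algebraize [f]
  haveI : Module.FaithfullyFlat O B := hf
  rw [← Ideal.mem_span_singleton, ← Ideal.comap_map_eq_self_of_faithfullyFlat (B := B) (Ideal.span {d}),
    Ideal.mem_comap, Ideal.map_span, Set.image_singleton]
  exact Ideal.mem_span_singleton.2 h

/-- A ring map with values in the image of an injective map lifts through it. -/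
theorem exists_lift_of_range_subset {A B C : CommRingCat.{u}} (φ : A ⟶ C) (j : B ⟶ C)
    (hj : Function.Injective j) (h : ∀ a, φ a ∈ Set.range j) : ∃ ψ : A ⟶ B, ψ ≫ j = φ := by
  let e : B ≃+* j.hom.range := RingEquiv.ofBijective j.hom.rangeRestrict
    ⟨fun a b hab => hj congr(($hab).1), j.hom.rangeRestrict_surjective⟩
  refine ⟨CommRingCat.ofHom (e.symm.toRingHom.comp (φ.hom.codRestrict j.hom.range h)), ?_⟩
  ext a
  exact congr(($(e.apply_symm_apply ⟨φ a, h a⟩)).1)

theorem Spec_hom_ext {R : CommRingCat.{u}} {B C : CommRingCat.{u}} (j : B ⟶ C)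
    (hj : Function.Injective j) (a b : Spec B ⟶ Spec R) (h : Spec.map j ≫ a = Spec.map j ≫ b) : a = b := by
  obtain ⟨f, rfl⟩ := Spec.map_surjective a
  obtain ⟨g, rfl⟩ := Spec.map_surjective b
  rw [← Spec.map_comp, ← Spec.map_comp] at h
  congr 1
  ext x
  exact hj congr(($(Spec.map_injective h)).hom x)

theorem exists_factor_affine {G : Scheme.{u}} {W : G.Opens} (hW : IsAffineOpen W) {A : CommRingCat.{u}}
    [IsLocalRing A] (σ : Spec A ⟶ G) (h : σ.base (IsLocalRing.closedPoint A) ∈ W) :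
    ∃ ψ : Γ(G, W) ⟶ A, σ = Spec.map ψ ≫ hW.fromSpec := by
  obtain ⟨ψ, hψ⟩ := Spec.map_surjective (IsOpenImmersion.lift hW.fromSpec σ (by
    rw [hW.range_fromSpec]
    rintro - ⟨z, rfl⟩
    exact ((IsLocalRing.specializes_closedPoint z).map σ.continuous).mem_open W.2 h))
  exact ⟨ψ, by rw [hψ, IsOpenImmersion.lift_fac]⟩

theorem factor_unique {G : Scheme.{u}} {W : G.Opens} (hW : IsAffineOpen W) {A : CommRingCat.{u}}
    {ψ ψ' : Γ(G, W) ⟶ A} (h : Spec.map ψ ≫ hW.fromSpec = Spec.map ψ' ≫ hW.fromSpec) : ψ = ψ' :=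
  Spec.map_injective ((cancel_mono hW.fromSpec).1 h)

end Groth.Agent.WeilExt
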