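import Groth.Agent.Lib.WeilExt.Algebra
import Mathlib.CategoryTheory.Monoidal.Cartesian.Over
import Mathlib.CategoryTheory.Monoidal.Cartesian.Grp

/-!
# Weil's extension criterion for maps into group schemes: the local statement

Everything is phrased with spectra of rings over a fixed affine base `Spec R`. `O` plays the role of the
local ring of a point `x` of `X`, `A` that of the diagonal point of `X ×_S X`, `π₁ π₂` the projections and
`δ` the diagonal.
-/

universe u

open CategoryTheory Limits AlgebraicGeometry MonoidalCategory CartesianMonoidalCategory MonObj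

namespace Groth.Agent.WeilExt

variable {R : CommRingCat.{u}}

/-- The spectrum of a ring under `R` as an object over `Spec R`. -/
noncomputable abbrev ov {A : CommRingCat.{u}} (r : R ⟶ A) : Over (Spec R) := Over.mk (Spec.map r)

/-- The morphism of spectra given by a ring map under `R`. -/
noncomputable def ovMap {A B : CommRingCat.{u}} {r : R ⟶ A} {r' : R ⟶ B} (f : A ⟶ B) (h : r ≫ f = r') :
    ov r' ⟶ ov r :=
  Over.homMk (Spec.map f) (by show Spec.map f ≫ Spec.map r = Spec.map r'; rw [← Spec.map_comp, h])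

@[simp]
theorem ovMap_left {A B : CommRingCat.{u}} {r : R ⟶ A} {r' : R ⟶ B} (f : A ⟶ B) (h : r ≫ f = r') :
    (ovMap f h).left = Spec.map f := rfl

theorem ovMap_comp {A B C : CommRingCat.{u}} {r : R ⟶ A} {r' : R ⟶ B} {r'' : R ⟶ C} (f : A ⟶ B) (h : r ≫ f = r')
    (g : B ⟶ C) (h' : r' ≫ g = r'') :
    ovMap g h' ≫ ovMap f h = ovMap (f ≫ g) (by rw [← Category.assoc, h, h']) := by
  ext1
  simp

theorem ovMap_congr {A B : CommRingCat.{u}} {r : R ⟶ A} {r' : R ⟶ B} {f g : A ⟶ B} (e : f = g) (h : r ≫ f = r')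
    (h' : r ≫ g = r') : ovMap f h = ovMap g h' := by
  subst e; rfl

theorem one_left {T G : Over (Spec R)} [GrpObj G] :
    (1 : T ⟶ G).left = T.hom ≫ (η[G]).left := by
  rw [Hom.one_def, Over.comp_left]
  congr 1

/-- Extending a map of spectra through an injective ring map. -/
theorem exists_over_lift {G : Over (Spec R)} {W : G.left.Opens} (hW : IsAffineOpen W) {B C : CommRingCat.{u}}
    {r : R ⟶ B} {r' : R ⟶ C} (j : B ⟶ C) (h : r ≫ j = r') (hj : Function.Injective j) (g : ov r' ⟶ G)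
    (φ : Γ(G.left, W) ⟶ C) (hφ : g.left = Spec.map φ ≫ hW.fromSpec) (hr : ∀ a, φ a ∈ Set.range j) :
    ∃ σ : ov r ⟶ G, ovMap j h ≫ σ = g := by
  obtain ⟨ψ, hψ⟩ := exists_lift_of_range_subset φ j hj hr
  refine ⟨Over.homMk (Spec.map ψ ≫ hW.fromSpec) ?_, ?_⟩
  · apply Spec_hom_ext j hj
    show Spec.map j ≫ (Spec.map ψ ≫ hW.fromSpec) ≫ G.hom = Spec.map j ≫ Spec.map r
    rw [Category.assoc, ← Spec.map_comp_assoc, hψ, ← Category.assoc, ← hφ, ← Spec.map_comp, h]
    exact Over.w g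
  · ext1
    simp only [Over.comp_left, ovMap_left, Over.homMk_left]
    rw [← Spec.map_comp_assoc, hψ, ← hφ]

variable {O A : CommRingCat.{u}}

/-- The local ring at a prime, as an object of `CommRingCat`. -/
noncomputable abbrev loc (B : CommRingCat.{u}) (q : Ideal B) [q.IsPrime] : CommRingCat.{u} :=
  CommRingCat.of (Localization.AtPrime q)

/-- The localization map. -/
noncomputable abbrev toLoc (B : CommRingCat.{u}) (q : Ideal B) [q.IsPrime] : B ⟶ loc B q :=
  CommRingCat.ofHom (algebraMap B (Localization.AtPrime q))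

/-- The induced map of local rings. -/
noncomputable abbrev locMap {B C : CommRingCat.{u}} (f : B ⟶ C) (p : Ideal B) [p.IsPrime] (q : Ideal C) [q.IsPrime]
    (h : p = q.comap f.hom) : loc B p ⟶ loc C q :=
  CommRingCat.ofHom (Localization.localRingHom p q f.hom h)

theorem toLoc_locMap {B C : CommRingCat.{u}} (f : B ⟶ C) (p : Ideal B) [p.IsPrime] (q : Ideal C) [q.IsPrime]
    (h : p = q.comap f.hom) : toLoc B p ≫ locMap f p q h = f ≫ toLoc C q := by
  ext a
  exact Localization.localRingHom_to_map (I := p) q f.hom h a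

theorem loc_hom_ext {B C : CommRingCat.{u}} {p : Ideal B} [p.IsPrime] {f g : loc B p ⟶ C}
    (h : toLoc B p ≫ f = toLoc B p ≫ g) : f = g :=
  CommRingCat.hom_ext (IsLocalization.ringHom_ext p.primeCompl (congr(CommRingCat.Hom.hom $h)))

/-- The map of a localization into the fraction field. -/
noncomputable def toFrac (B K : CommRingCat.{u}) [IsDomain B] (jK : B ⟶ K) (hK : Function.Injective jK)
    (hf : IsField K) (q : Ideal B) [q.IsPrime] : loc B q ⟶ K :=
  CommRingCat.ofHom (IsLocalization.lift (M := q.primeCompl) (g := jK.hom) fun y => by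
    letI := hf.toField
    exact isUnit_iff_ne_zero.2 fun h => y.2 (by
      rw [(injective_iff_map_eq_zero _).1 hK y.1 h]; exact q.zero_mem))

theorem toLoc_toFrac (B K : CommRingCat.{u}) [IsDomain B] (jK : B ⟶ K) (hK : Function.Injective jK)
    (hf : IsField K) (q : Ideal B) [q.IsPrime] : toLoc B q ≫ toFrac B K jK hK hf q = jK :=
  CommRingCat.hom_ext (IsLocalization.lift_comp _)

theorem toFrac_injective (B K : CommRingCat.{u}) [IsDomain B] (jK : B ⟶ K) (hK : Function.Injective jK)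
    (hf : IsField K) (q : Ideal B) [q.IsPrime] : Function.Injective (toFrac B K jK hK hf q) :=
  (IsLocalization.lift_injective_iff _).2 fun a b => by
    rw [hK.eq_iff, (IsLocalization.injective (Localization.AtPrime q) q.primeCompl_le_nonZeroDivisors).eq_iff]

/-- A translate of an extension along a projection. -/
theorem exists_translate {G : Over (Spec R)} {K L : CommRingCat.{u}} {r : R ⟶ O} {rA : R ⟶ A}
    (jO : O ⟶ K) (jA : A ⟶ L) (πK : K ⟶ L) (π : O ⟶ A) (hπ : r ≫ π = rA) (hπK : jO ≫ πK = π ≫ jA)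
    (γ : ov (r ≫ jO) ⟶ G) (p : Ideal O) [p.IsPrime] (q : Ideal A) [q.IsPrime] (hpq : p = q.comap π.hom)
    (jp : loc O p ⟶ K) (hjp : toLoc O p ≫ jp = jO) (jq : loc A q ⟶ L) (hjq : toLoc A q ≫ jq = jA)
    (σ : ov (r ≫ toLoc O p) ⟶ G) (hσ : ovMap jp (by rw [Category.assoc, hjp]) ≫ σ = γ) :
    ovMap (r' := rA ≫ jA) jq (by rw [Category.assoc, hjq]) ≫
        (ovMap (r' := rA ≫ toLoc A q) (locMap π p q hpq)
          (by rw [Category.assoc, toLoc_locMap, ← Category.assoc, hπ]) ≫ σ) =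
      ovMap (r' := rA ≫ jA) πK (by rw [Category.assoc, hπK, ← Category.assoc, hπ]) ≫ γ := by
  have hσ' := congr(($hσ).left)
  rw [Over.comp_left, ovMap_left] at hσ'
  ext1
  simp only [Over.comp_left, ovMap_left]
  rw [← hσ', ← Spec.map_comp_assoc, ← Spec.map_comp_assoc]
  congr 2
  apply loc_hom_ext
  rw [← Category.assoc, toLoc_locMap, Category.assoc, hjq, ← Category.assoc, hjp, hπK]

section Main

variable (G : Over (Spec R)) [GrpObj G] [IsDomain A] [IsLocalRing O] (r : R ⟶ O) (rA : R ⟶ A)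
  (π₁ π₂ : O ⟶ A) (δ : A ⟶ O) (h₁ : r ≫ π₁ = rA) (h₂ : r ≫ π₂ = rA) (hδ₁ : π₁ ≫ δ = 𝟙 O) (hδ₂ : π₂ ≫ δ = 𝟙 O)
  {K L : CommRingCat.{u}} (jO : O ⟶ K) (jA : A ⟶ L) (hjA : Function.Injective jA) (hL : IsField L)
  (πK₁ πK₂ : K ⟶ L) (hK₁ : jO ≫ πK₁ = π₁ ≫ jA) (hK₂ : jO ≫ πK₂ = π₂ ≫ jA)
  (γ : ov (r ≫ jO) ⟶ G)

/-- The hypothesis: `γ` extends to the localizations of height at most one. -/
def ExtendsInHeightOne : Prop :=
  ∀ (p : Ideal O) [p.IsPrime], p.height ≤ 1 → ∃ (jp : loc O p ⟶ K) (hjp : toLoc O p ≫ jp = jO)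
    (σ : ov (r ≫ toLoc O p) ⟶ G), ovMap jp (by rw [Category.assoc, hjp]) ≫ σ = γ

include h₁ h₂ hδ₁ hδ₂ hjA hL hK₁ hK₂ in
/-- The difference of the two translates extends over the diagonal localization. -/
theorem exists_factor_diagonal (hγ : ExtendsInHeightOne G r jO γ) {W : G.left.Opens} (hW : IsAffineOpen W)
    (hsW : (η[G]).left.base ((Spec.map r).base (IsLocalRing.closedPoint O)) ∈ W)
    (p : Ideal O) [p.IsPrime] (hp : p.height ≤ 1) :
    ∃ ψ : Γ(G.left, W) ⟶ loc A (p.comap δ.hom),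
      ((ovMap (r' := rA ≫ jA) πK₂ (by rw [Category.assoc, hK₂, ← Category.assoc, h₂]) ≫ γ) *
        (ovMap (r' := rA ≫ jA) πK₁ (by rw [Category.assoc, hK₁, ← Category.assoc, h₁]) ≫ γ)⁻¹).left =
        Spec.map (ψ ≫ toFrac A L jA hjA hL (p.comap δ.hom)) ≫ hW.fromSpec := by
  obtain ⟨jp, hjp, σ, hσ⟩ := hγ p hp
  have hc₁ : p = (p.comap δ.hom).comap π₁.hom := by rw [Ideal.comap_comap, ← CommRingCat.hom_comp, hδ₁]; rfl
  have hc₂ : p = (p.comap δ.hom).comap π₂.hom := by rw [Ideal.comap_comap, ← CommRingCat.hom_comp, hδ₂]; rfl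
  have t₁ := exists_translate jO jA πK₁ π₁ h₁ hK₁ γ p _ hc₁ jp hjp _ (toLoc_toFrac A L jA hjA hL _) σ hσ
  have t₂ := exists_translate jO jA πK₂ π₂ h₂ hK₂ γ p _ hc₂ jp hjp _ (toLoc_toFrac A L jA hjA hL _) σ hσ
  have hl : locMap π₁ p _ hc₁ ≫ locMap δ (p.comap δ.hom) p rfl = 𝟙 _ := by
    apply loc_hom_ext
    rw [← Category.assoc, toLoc_locMap, Category.assoc, toLoc_locMap, ← Category.assoc, hδ₁, Category.id_comp, Category.comp_id]
  have hl' : locMap π₂ p _ hc₂ ≫ locMap δ (p.comap δ.hom) p rfl = 𝟙 _ := by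
    apply loc_hom_ext
    rw [← Category.assoc, toLoc_locMap, Category.assoc, toLoc_locMap, ← Category.assoc, hδ₂, Category.id_comp, Category.comp_id]
  set τ₁ : ov (rA ≫ toLoc A (p.comap δ.hom)) ⟶ G := ovMap (locMap π₁ p _ hc₁) _ ≫ σ
  set τ₂ : ov (rA ≫ toLoc A (p.comap δ.hom)) ⟶ G := ovMap (locMap π₂ p _ hc₂) _ ≫ σ
  let d : ov (r ≫ toLoc O p) ⟶ ov (rA ≫ toLoc A (p.comap δ.hom)) :=
    ovMap (locMap δ (p.comap δ.hom) p rfl) (by
      rw [Category.assoc, toLoc_locMap, ← Category.assoc, ← h₁, Category.assoc r, hδ₁, Category.comp_id])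
  have hd₁ : d ≫ τ₁ = σ := by
    ext1
    simp only [τ₁, d, Over.comp_left, ovMap_left]
    rw [← Spec.map_comp_assoc, hl, Spec.map_id, Category.id_comp]
  have hd₂ : d ≫ τ₂ = σ := by
    ext1
    simp only [τ₂, d, Over.comp_left, ovMap_left]
    rw [← Spec.map_comp_assoc, hl', Spec.map_id, Category.id_comp]
  have hone : d ≫ (τ₂ * τ₁⁻¹) = 1 := by rw [MonObj.comp_mul, GrpObj.comp_inv, hd₁, hd₂, mul_inv_cancel]
  obtain ⟨ψ, hψ⟩ := exists_factor_affine hW (A := loc A (p.comap δ.hom)) (τ₂ * τ₁⁻¹).left (by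
    have hcl : d.left.base (IsLocalRing.closedPoint _) = IsLocalRing.closedPoint (loc A (p.comap δ.hom)) :=
      IsLocalRing.comap_closedPoint (Localization.localRingHom (p.comap δ.hom) p δ.hom rfl)
    rw [← hcl, ← Scheme.Hom.comp_apply, ← Over.comp_left, hone, one_left, Scheme.Hom.comp_apply]
    refine Specializes.mem_open (Specializes.map ?_ (η[G]).left.continuous) W.2 hsW
    show (Spec.map (r ≫ toLoc O p)).base _ ⤳ (Spec.map r).base (IsLocalRing.closedPoint O)
    rw [Spec.map_comp, Scheme.Hom.comp_apply]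
    exact (IsLocalRing.specializes_closedPoint _).map (Spec.map r).continuous)
  refine ⟨ψ, ?_⟩
  rw [← t₁, ← t₂, ← GrpObj.comp_inv, ← MonObj.comp_mul, Over.comp_left, hψ, ovMap_left, Spec.map_comp, Category.assoc]

variable [IsNoetherianRing O] [UniqueFactorizationMonoid A] [IsLocalHom δ.hom]

include h₁ h₂ hδ₁ hδ₂ hjA hL hK₁ hK₂ in
/-- The difference of the two translates extends over the diagonal point. -/
theorem exists_extension_diagonal [Algebra A L] [IsFractionRing A L] (hjA' : jA.hom = algebraMap A L)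
    (hOd : IsDomain O) (hγ : ExtendsInHeightOne G r jO γ) :
    ∃ σA : ov rA ⟶ G, ovMap jA rfl ≫ σA =
      (ovMap (r' := rA ≫ jA) πK₂ (by rw [Category.assoc, hK₂, ← Category.assoc, h₂]) ≫ γ) *
        (ovMap (r' := rA ≫ jA) πK₁ (by rw [Category.assoc, hK₁, ← Category.assoc, h₁]) ≫ γ)⁻¹ := by
  obtain ⟨W, hW, hsW, -⟩ := exists_isAffineOpen_mem_and_subset (X := G.left)
    (x := (η[G]).left.base ((Spec.map r).base (IsLocalRing.closedPoint O))) (U := ⊤) trivial
  have step := exists_factor_diagonal G r rA π₁ π₂ δ h₁ h₂ hδ₁ hδ₂ jO jA hjA hL πK₁ πK₂ hK₁ hK₂ γ hγ hW hsW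
  obtain ⟨ψ₀, hψ₀⟩ := step ⊥ (by rw [Ideal.height_bot]; exact zero_le_one)
  letI := hL.toField
  refine exists_over_lift hW jA rfl hjA _ _ hψ₀ fun a => ?_
  rw [show (jA : A → L) = algebraMap A L from congrArg DFunLike.coe hjA']
  refine mem_range_of_forall_height_le_one δ.hom _ fun p _ hp => ?_
  obtain ⟨ψ, hψ⟩ := step p hp
  rw [factor_unique hW (hψ₀.symm.trans hψ)]
  obtain ⟨⟨c, d⟩, hcd⟩ := IsLocalization.surj (p.comap δ.hom).primeCompl (ψ a)
  refine ⟨c, d, d.2, ?_⟩
  have h' := congr((toFrac A L jA hjA hL (p.comap δ.hom)).hom $hcd)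
  have hlift : ∀ t, (toFrac A L jA hjA hL (p.comap δ.hom)).hom (algebraMap A _ t) = algebraMap A L t := fun t => by
    rw [← hjA']
    exact congr(($(toLoc_toFrac A L jA hjA hL (p.comap δ.hom))).hom t)
  rw [map_mul, hlift, hlift] at h'
  exact h'

include h₁ h₂ hδ₁ hδ₂ hjA hL hK₁ hK₂ in
/-- Weil's criterion: an extension over the diagonal point descends along a flat projection. -/
theorem exists_extension [Algebra A L] [IsFractionRing A L] (hjA' : jA.hom = algebraMap A L)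
    [IsDomain O] [Algebra O K] [IsFractionRing O K] (hjO' : jO.hom = algebraMap O K) (hKf : IsField K)
    (hγ : ExtendsInHeightOne G r jO γ) (hflat : π₂.hom.Flat)
    (q : Ideal A) [q.IsPrime] (hq₂ : q.comap π₂.hom = IsLocalRing.maximalIdeal O)
    (hq₁ : (q.comap π₁.hom).height ≤ 1) :
    ∃ σ : ov r ⟶ G, ovMap jO rfl ≫ σ = γ := by
  obtain ⟨σA, hσA⟩ := exists_extension_diagonal G r rA π₁ π₂ δ h₁ h₂ hδ₁ hδ₂ jO jA hjA hL πK₁ πK₂ hK₁ hK₂ γ
    hjA' inferInstance hγ
  obtain ⟨jp, hjp, σ₁, hσ₁⟩ := hγ _ hq₁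
  have hq := toLoc_toFrac A L jA hjA hL q
  have t₁ := exists_translate jO jA πK₁ π₁ h₁ hK₁ γ _ q rfl jp hjp _ hq σ₁ hσ₁
  set τ₁ : ov (rA ≫ toLoc A q) ⟶ G := ovMap (locMap π₁ _ q rfl) _ ≫ σ₁
  let τ₂ : ov (rA ≫ toLoc A q) ⟶ G := (ovMap (toLoc A q) rfl ≫ σA) * τ₁
  have t₂ : ovMap (r' := rA ≫ jA) (toFrac A L jA hjA hL q) (by rw [Category.assoc, hq]) ≫ τ₂ =
      ovMap (r' := rA ≫ jA) πK₂ (by rw [Category.assoc, hK₂, ← Category.assoc, h₂]) ≫ γ := by
    rw [MonObj.comp_mul, t₁, ← Category.assoc, ovMap_comp,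
      ovMap_congr (g := jA) hq _ rfl, hσA, inv_mul_cancel_right]
  obtain ⟨W, hW, hcl, -⟩ := exists_isAffineOpen_mem_and_subset (X := G.left)
    (x := τ₂.left.base (IsLocalRing.closedPoint (loc A q))) (U := ⊤) trivial
  obtain ⟨ψ, hψ⟩ := exists_factor_affine hW (A := loc A q) τ₂.left hcl
  have h2eq : Spec.map πK₂ ≫ γ.left = Spec.map (ψ ≫ toFrac A L jA hjA hL q) ≫ hW.fromSpec := by
    have := congr(($t₂).left)
    rw [Over.comp_left, Over.comp_left, ovMap_left, ovMap_left, hψ] at this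
    rw [← this, Spec.map_comp, Category.assoc]
  letI := hKf.toField
  letI := hL.toField
  haveI : IsLocalRing L := inferInstance
  haveI : IsLocalRing K := inferInstance
  obtain ⟨φK, hφK⟩ := exists_factor_affine hW (A := K) γ.left (by
    have e : (Spec.map πK₂).base (IsLocalRing.closedPoint L) = IsLocalRing.closedPoint K :=
      Subsingleton.elim (α := PrimeSpectrum K) _ _
    rw [← e, ← Scheme.Hom.comp_apply, h2eq, Scheme.Hom.comp_apply]
    exact hW.range_fromSpec.le ⟨_, rfl⟩)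
  have hcomm : φK ≫ πK₂ = ψ ≫ toFrac A L jA hjA hL q := by
    apply factor_unique hW
    rw [Spec.map_comp, Category.assoc, ← hφK, h2eq]
  let πB : O ⟶ loc A q := π₂ ≫ toLoc A q
  have hπBflat : πB.hom.Flat := RingHom.Flat.comp hflat (RingHom.flat_algebraMap_iff.2 (IsLocalization.flat (Localization.AtPrime q) q.primeCompl))
  have hloc : IsLocalHom πB.hom := by
    refine ⟨fun a ha => ?_⟩
    by_contra hna
    have hm : π₂.hom a ∈ q := by
      show a ∈ q.comap π₂.hom
      rw [hq₂]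
      exact hna
    exact (IsLocalRing.mem_maximalIdeal _).1
      ((IsLocalization.AtPrime.to_map_mem_maximal_iff (Localization.AtPrime q) q _).2 hm) ha
  have hff : πB.hom.FaithfullyFlat := by
    letI := πB.hom.toAlgebra
    haveI : IsLocalHom (algebraMap O (loc A q)) := hloc
    haveI : Module.Flat O (loc A q) := hπBflat
    exact Module.FaithfullyFlat.of_flat_of_isLocalHom (A := O) (B := loc A q)
  have hinjO : Function.Injective jO := by
    show Function.Injective jO.hom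
    rw [hjO']; exact IsFractionRing.injective O K
  refine exists_over_lift hW jO rfl hinjO γ φK hφK fun a => ?_
  obtain ⟨c, d, hd, hz⟩ := IsFractionRing.div_surjective (A := O) (φK a)
  have hd0 : algebraMap O K d ≠ 0 := fun h =>
    nonZeroDivisors.ne_zero hd (IsFractionRing.injective O K (h.trans (map_zero _).symm))
  have h' : φK a * algebraMap O K d = algebraMap O K c := by rw [← hz, div_mul_cancel₀ _ hd0]
  have h'' := congrArg πK₂.hom h'
  have hπK : ∀ t, πK₂.hom (algebraMap O K t) = (toFrac A L jA hjA hL q).hom (πB.hom t) := fun t => by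
    rw [← hjO']
    have e1 := congr(($hK₂).hom t)
    have e2 := congr(($hq).hom (π₂.hom t))
    exact e1.trans e2.symm
  have hψa : πK₂.hom (φK a) = (toFrac A L jA hjA hL q).hom (ψ a) := congr(($hcomm).hom a)
  rw [map_mul, hψa, hπK, hπK, ← map_mul] at h''
  obtain ⟨e, he⟩ := dvd_of_dvd_map πB.hom hff
    ⟨ψ a, by rw [mul_comm]; exact (toFrac_injective A L jA hjA hL q h'').symm⟩
  refine ⟨e, ?_⟩
  show jO.hom e = φK a
  rw [hjO', ← hz, he, map_mul, mul_div_cancel_left₀ _ hd0]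

end Main

end Groth.Agent.WeilExt
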