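import Groth.Agent.Lib.WeilExt.Criterion
import Groth.Agent.Lib.FlatH4.GenPt
import Mathlib.AlgebraicGeometry.Fiber
import Mathlib.AlgebraicGeometry.Morphisms.Flat
import Mathlib.AlgebraicGeometry.GammaSpecAdjunction

/-!
# Weil's extension criterion at a point of a flat scheme
-/

universe u

open CategoryTheory Limits AlgebraicGeometry MonoidalCategory CartesianMonoidalCategory MonObj

namespace Groth.Agent.WeilExt

variable {R : CommRingCat.{u}}

/-- The structure map of the local ring at a point of an `R`-scheme. -/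
noncomputable def rStalk {Y : Scheme.{u}} (s : Y ⟶ Spec R) (y : Y) : R ⟶ Y.presheaf.stalk y :=
  Spec.preimage (Y.fromSpecStalk y ≫ s)

theorem rStalk_spec {Y : Scheme.{u}} (s : Y ⟶ Spec R) (y : Y) :
    Spec.map (rStalk s y) = Y.fromSpecStalk y ≫ s := Spec.map_preimage _

/-- The map on stalks at a point mapping to `x`. -/
noncomputable def stalkHom {Y X : Scheme.{u}} (g : Y ⟶ X) (P : Y) (x : X) (h : g.base P = x) :
    X.presheaf.stalk x ⟶ Y.presheaf.stalk P :=
  X.presheaf.stalkSpecializes (specializes_of_eq h) ≫ g.stalkMap P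

theorem stalkHom_spec {Y X : Scheme.{u}} (g : Y ⟶ X) (P : Y) (x : X) (h : g.base P = x) :
    Spec.map (stalkHom g P x h) ≫ X.fromSpecStalk x = Y.fromSpecStalk P ≫ g := by
  rw [stalkHom, Spec.map_comp, Category.assoc, Scheme.SpecMap_stalkSpecializes_fromSpecStalk,
    Scheme.SpecMap_stalkMap_fromSpecStalk]

theorem stalkHom_flat {Y X : Scheme.{u}} (g : Y ⟶ X) [Flat g] (P : Y) (x : X) (h : g.base P = x) :
    (stalkHom g P x h).hom.Flat := by
  rw [stalkHom, CommRingCat.hom_comp]
  refine RingHom.Flat.comp ?_ (Flat.stalkMap g P)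
  subst h
  rw [TopCat.Presheaf.stalkSpecializes_refl]
  exact RingHom.Flat.id _

theorem rStalk_stalkHom {Y X : Scheme.{u}} (g : Y ⟶ X) (s : X ⟶ Spec R) (P : Y) (x : X) (h : g.base P = x) :
    rStalk s x ≫ stalkHom g P x h = rStalk (g ≫ s) P := by
  apply Spec.map_injective
  rw [Spec.map_comp, rStalk_spec, rStalk_spec, ← Category.assoc, stalkHom_spec, Category.assoc]

theorem eq_closedPoint_of_apply_eq {X : Scheme.{u}} (x : X) (z : Spec (X.presheaf.stalk x))
    (h : (X.fromSpecStalk x).base z = x) : z = IsLocalRing.closedPoint _ :=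
  (X.fromSpecStalk x).isEmbedding.injective (h.trans X.fromSpecStalk_closedPoint.symm)

/-- Some generization of the diagonal point lies over `x` for the second projection and over a point of
height at most one for the first. -/
theorem exists_good_prime {X S : Scheme.{u}} (f : X ⟶ S) (x : X) [IsLocallyNoetherian X]
    (hS : (IsLocalRing.maximalIdeal (S.presheaf.stalk (f.base x))).IsPrincipal)
    (P : (pullback f f : Scheme.{u})) (h1 : (pullback.fst f f).base P = x) (h2 : (pullback.snd f f).base P = x) :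
    ∃ q : Ideal ((pullback f f).presheaf.stalk P), ∃ hq : q.IsPrime,
      q.comap (stalkHom (pullback.snd f f) P x h2).hom = IsLocalRing.maximalIdeal _ ∧
      (q.comap (stalkHom (pullback.fst f f) P x h1).hom).height ≤ 1 := by
  let P' : (pullback.snd f f).fiber x := ((pullback.snd f f).fiberHomeo x).symm ⟨P, h2⟩
  obtain ⟨w, hw, hwP⟩ := FlatH4.exists_isMaxPt_specializes P'
  let v : (pullback f f : Scheme.{u}) := ((pullback.snd f f).fiberι x).base w
  have hvP : v ⤳ P := by
    have := hwP.map ((pullback.snd f f).fiberι x).continuous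
    rwa [Scheme.Hom.fiberι_fiberHomeo_symm] at this
  have hv2 : (pullback.snd f f).base v = x := by
    have : v ∈ Set.range ((pullback.snd f f).fiberι x).base := ⟨w, rfl⟩
    rwa [Scheme.Hom.range_fiberι] at this
  let m := pullback.map (pullback.snd f f) (X.fromSpecResidueField x) f
    (S.fromSpecResidueField (f.base x)) (pullback.fst f f)
    (Spec.map (f.residueFieldMap x)) f pullback.condition.symm (by simp)
  haveI : Flat m := by
    haveI : Flat (Spec.map (f.residueFieldMap x)) := inferInstance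
    exact MorphismProperty.of_isPullback
      (isPullback_fiberToSpecResidueField_of_isPullback (IsPullback.of_hasPullback f f) x).flip inferInstance
  have hy' : FlatH4.IsMaxPt (m.base w) := hw.map_of_flat m
  have hy : (f.fiberι (f.base x)).base (m.base w) = (pullback.fst f f).base v := by
    show (m ≫ pullback.fst _ _).base w = (pullback.fst _ _ ≫ pullback.fst f f).base w
    rw [pullback.lift_fst]
  obtain ⟨qpt, hqpt⟩ : v ∈ Set.range ((pullback f f).fromSpecStalk P).base := by
    rw [Scheme.range_fromSpecStalk]; exact hvP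
  refine ⟨qpt.asIdeal, qpt.isPrime, ?_, ?_⟩
  · have : (Spec.map (stalkHom (pullback.snd f f) P x h2)).base qpt = IsLocalRing.closedPoint _ := by
      apply eq_closedPoint_of_apply_eq
      rw [← Scheme.Hom.comp_apply, stalkHom_spec _ P x h2, Scheme.Hom.comp_apply, hqpt, hv2]
    exact congrArg PrimeSpectrum.asIdeal this
  let z₁ : Spec (X.presheaf.stalk x) := (Spec.map (stalkHom (pullback.fst f f) P x h1)).base qpt
  have hz₁ : (X.fromSpecStalk x).base z₁ = (pullback.fst f f).base v := by
    rw [← hqpt, ← Scheme.Hom.comp_apply, ← Scheme.Hom.comp_apply, ← stalkHom_spec _ P x h1]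
  have hys : f.base ((X.fromSpecStalk x).base z₁) = f.base x := by
    rw [hz₁, ← Scheme.Hom.comp_apply, pullback.condition, Scheme.Hom.comp_apply, hv2]
  show z₁.asIdeal.height ≤ 1
  haveI := hS
  refine Ideal.height_le_one_of_isPrincipal_of_mem_minimalPrimes
    ((IsLocalRing.maximalIdeal (S.presheaf.stalk (f.base x))).map (f.stalkMap x).hom) z₁.asIdeal ?_
  have key : ∀ z : Spec (X.presheaf.stalk x), f.base ((X.fromSpecStalk x).base z) = f.base x ↔
      IsLocalRing.maximalIdeal _ ≤ z.asIdeal.comap (f.stalkMap x).hom := fun z => by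
    rw [← Scheme.Hom.comp_apply, ← Scheme.SpecMap_stalkMap_fromSpecStalk, Scheme.Hom.comp_apply]
    refine ⟨fun h => ?_, fun h => ?_⟩
    · exact (congrArg PrimeSpectrum.asIdeal (eq_closedPoint_of_apply_eq _ _ h)).ge
    · have : (Spec.map (f.stalkMap x)).base z = IsLocalRing.closedPoint _ :=
        PrimeSpectrum.ext ((IsLocalRing.le_maximalIdeal (Ideal.comap_ne_top _ z.isPrime.ne_top)).antisymm h)
      rw [this, Scheme.fromSpecStalk_closedPoint]
  refine ⟨⟨z₁.isPrime, Ideal.map_le_iff_le_comap.2 ((key z₁).1 hys)⟩, fun p' ⟨hp', hle⟩ hp'p => ?_⟩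
  have hz := (key ⟨p', hp'⟩).2 (Ideal.map_le_iff_le_comap.1 hle)
  let z' := (f.fiberHomeo (f.base x)).symm ⟨_, hz⟩
  have hspec : z' ⤳ m.base w := by
    refine (f.fiberι (f.base x)).isEmbedding.isInducing.specializes_iff.1 ?_
    rw [hy, ← hz₁, Scheme.Hom.fiberι_fiberHomeo_symm]
    exact ((PrimeSpectrum.le_iff_specializes ⟨p', hp'⟩ z₁).1 hp'p).map (X.fromSpecStalk x).continuous
  have heq := congrArg (f.fiberι (f.base x)).base (hy' z' hspec)
  rw [hy, ← hz₁, Scheme.Hom.fiberι_fiberHomeo_symm] at heq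
  exact (congrArg PrimeSpectrum.asIdeal ((X.fromSpecStalk x).isEmbedding.injective heq)).ge

/-- The inclusion of the local ring in its fraction field. -/
noncomputable abbrev toFF (O : CommRingCat.{u}) : O ⟶ CommRingCat.of (FractionRing O) :=
  CommRingCat.ofHom (algebraMap O (FractionRing O))

theorem exists_fracMap {O A : Type u} [CommRing O] [IsDomain O] [CommRing A] [IsDomain A] (π : O →+* A)
    (h : Function.Injective π) : ∃ ψ : FractionRing O →+* FractionRing A,
      ψ.comp (algebraMap O (FractionRing O)) = (algebraMap A (FractionRing A)).comp π :=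
  ⟨IsLocalization.map (M := nonZeroDivisors O) (T := nonZeroDivisors A) (FractionRing A) π
    (nonZeroDivisors_le_comap_nonZeroDivisors_of_injective π h), IsLocalization.map_comp _⟩

/-- The criterion for abstract local rings, with fraction fields. -/
theorem exists_extension_frac {O A : CommRingCat.{u}} (G : Over (Spec R)) [GrpObj G]
    [IsLocalRing O] [IsNoetherianRing O] [IsDomain O] [IsDomain A] [UniqueFactorizationMonoid A]
    (r : R ⟶ O) (π₁ π₂ : O ⟶ A) (δ : A ⟶ O) (hr : r ≫ π₂ = r ≫ π₁)
    (hδ₁ : π₁ ≫ δ = 𝟙 O) (hδ₂ : π₂ ≫ δ = 𝟙 O) (hδ : IsLocalHom δ.hom) (hflat : π₂.hom.Flat)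
    (hq : ∃ q : Ideal A, ∃ _ : q.IsPrime,
      q.comap π₂.hom = IsLocalRing.maximalIdeal O ∧ (q.comap π₁.hom).height ≤ 1)
    (γ : ov (r ≫ toFF O) ⟶ G) (hγ : ExtendsInHeightOne G r (toFF O) γ) :
    ∃ σ : ov r ⟶ G, ovMap (toFF O) rfl ≫ σ = γ := by
  have inj : ∀ π : O ⟶ A, π ≫ δ = 𝟙 O → Function.Injective π.hom := fun π h a b hab => by
    have := congrArg δ.hom hab
    rwa [← RingHom.comp_apply, ← RingHom.comp_apply, ← CommRingCat.hom_comp, h] at this
  have hinjL : Function.Injective (algebraMap A (FractionRing A)) := IsFractionRing.injective _ _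
  obtain ⟨ψ₁, hψ₁⟩ := exists_fracMap π₁.hom (inj π₁ hδ₁)
  obtain ⟨ψ₂, hψ₂⟩ := exists_fracMap π₂.hom (inj π₂ hδ₂)
  have hK : ∀ (π : O ⟶ A) (ψ : FractionRing O →+* FractionRing A),
      ψ.comp (algebraMap O (FractionRing O)) = (algebraMap A (FractionRing A)).comp π.hom →
      toFF O ≫ CommRingCat.ofHom ψ = π ≫ toFF A := fun π ψ h => CommRingCat.hom_ext h
  obtain ⟨q, _, hq₂, hq₁⟩ := hq
  haveI := hδ
  exact exists_extension G r _ π₁ π₂ δ rfl hr hδ₁ hδ₂ (toFF O) (toFF A) hinjL
    (Field.toIsField (FractionRing A)) (CommRingCat.ofHom ψ₁) (CommRingCat.ofHom ψ₂) (hK π₁ ψ₁ hψ₁) (hK π₂ ψ₂ hψ₂) γ rfl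
    rfl (Field.toIsField (FractionRing O)) hγ hflat q hq₂ hq₁

/-- **Weil's criterion** at a point `x`: a map into a group scheme given at the generic point of `O_{X,x}`
which extends in height at most one extends to `Spec O_{X,x}`. -/
theorem exists_extension_stalk (X G : Over (Spec R)) [GrpObj G] [Flat X.hom] [IsLocallyNoetherian X.left]
    (x : X.left) [IsDomain (X.left.presheaf.stalk x)]
    [IsDomain ((pullback X.hom X.hom).presheaf.stalk ((pullback.diagonal X.hom).base x))]
    [UniqueFactorizationMonoid ((pullback X.hom X.hom).presheaf.stalk ((pullback.diagonal X.hom).base x))]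
    (hS : (IsLocalRing.maximalIdeal ((Spec R).presheaf.stalk (X.hom.base x))).IsPrincipal)
    (γ : ov (rStalk X.hom x ≫ toFF (X.left.presheaf.stalk x)) ⟶ G)
    (hγ : ExtendsInHeightOne G (rStalk X.hom x) (toFF (X.left.presheaf.stalk x)) γ) :
    ∃ σ : ov (rStalk X.hom x) ⟶ G, ovMap (toFF _) rfl ≫ σ = γ := by
  have h1 : (pullback.fst X.hom X.hom).base ((pullback.diagonal X.hom).base x) = x := by
    show (pullback.diagonal X.hom ≫ pullback.fst X.hom X.hom).base x = x
    rw [pullback.diagonal_fst]; rfl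
  have h2 : (pullback.snd X.hom X.hom).base ((pullback.diagonal X.hom).base x) = x := by
    show (pullback.diagonal X.hom ≫ pullback.snd X.hom X.hom).base x = x
    rw [pullback.diagonal_snd]; rfl
  have hδ : Spec.map ((pullback.diagonal X.hom).stalkMap x) ≫ (pullback X.hom X.hom).fromSpecStalk _ =
      X.left.fromSpecStalk x ≫ pullback.diagonal X.hom := Scheme.SpecMap_stalkMap_fromSpecStalk _
  have hid : ∀ (g : pullback X.hom X.hom ⟶ X.left) (h : g.base ((pullback.diagonal X.hom).base x) = x),
      pullback.diagonal X.hom ≫ g = 𝟙 _ →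
        stalkHom g _ x h ≫ (pullback.diagonal X.hom).stalkMap x = 𝟙 _ := fun g h hg => by
    apply Spec.map_injective
    rw [← cancel_mono (X.left.fromSpecStalk x), Spec.map_comp, Category.assoc, stalkHom_spec,
      reassoc_of% hδ, hg, Spec.map_id, Category.comp_id, Category.id_comp]
  exact exists_extension_frac G (rStalk X.hom x) (stalkHom (pullback.fst X.hom X.hom) _ x h1)
    (stalkHom (pullback.snd X.hom X.hom) _ x h2) ((pullback.diagonal X.hom).stalkMap x)
    (by rw [rStalk_stalkHom, rStalk_stalkHom, pullback.condition])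
    (hid _ h1 (pullback.diagonal_fst _)) (hid _ h2 (pullback.diagonal_snd _)) inferInstance
    (stalkHom_flat _ _ x h2) (exists_good_prime X.hom x hS _ h1 h2) γ hγ

end Groth.Agent.WeilExt
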