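import Groth.Agent.Lib.WeilExt.Apply

/-!
# Rational maps given at the maximal points
-/

universe u

open CategoryTheory Limits AlgebraicGeometry TopologicalSpace

namespace Groth.Agent.WeilExt

theorem genOf_eq_self {X : Scheme.{u}} {z : X} [IsDomain (X.presheaf.stalk z)] (hz : FlatH4.IsMaxPt z) :
    genOf z = z :=
  (eq_genOf_of_specializes z hz specializes_rfl).symm

/-- Maps given at the maximal points come from a map defined on a dense open subscheme. -/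
theorem exists_open_of_maxPts {X S G : Scheme.{u}} [IsLocallyNoetherian X] (sX : X ⟶ S) (sG : G ⟶ S)
    [LocallyOfFiniteType sG] (hdom : ∀ x : X, IsDomain (X.presheaf.stalk x))
    (φ : ∀ z : X, FlatH4.IsMaxPt z → (Spec (X.presheaf.stalk z) ⟶ G))
    (hφ : ∀ z hz, φ z hz ≫ sG = X.fromSpecStalk z ≫ sX) :
    ∃ (U : X.Opens) (f : (U : Scheme.{u}) ⟶ G), Dense (U : Set X) ∧ f ≫ sG = U.ι ≫ sX ∧
      ∀ (z : X) (hz : FlatH4.IsMaxPt z), ∃ hzU : z ∈ U, U.fromSpecStalkOfMem z hzU ≫ f = φ z hz := by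
  haveI := hdom
  have hloc : ∀ z : {z : X // FlatH4.IsMaxPt z}, ∃ (V : X.Opens) (hzV : z.1 ∈ V) (g : (V : Scheme.{u}) ⟶ G),
      g ≫ sG = V.ι ≫ sX ∧ V.fromSpecStalkOfMem z.1 hzV ≫ g = φ z.1 z.2 ∧
        ∀ w ∈ V, FlatH4.IsMaxPt w → w = z.1 := fun ⟨z, hz⟩ => by
    obtain ⟨V₁, hzV₁, g₁, hg₁, hg₁S⟩ := spread_out_of_isGermInjective' sX sG (φ z hz) (x := z) (hφ z hz)
    obtain ⟨V₂, hzV₂, hV₂⟩ := exists_nhd_unique_isMaxPt z
    refine ⟨V₁ ⊓ V₂, ⟨hzV₁, hzV₂⟩, X.homOfLE inf_le_left ≫ g₁, ?_, ?_, fun w hw hwm => ?_⟩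
    · rw [Category.assoc, hg₁S, Scheme.homOfLE_ι_assoc]
    · rw [hg₁, ← Category.assoc]
      congr 1
      rw [← cancel_mono V₁.ι, Category.assoc, Scheme.homOfLE_ι, Scheme.Opens.fromSpecStalkOfMem_ι,
        Scheme.Opens.fromSpecStalkOfMem_ι]
    · exact (hV₂ w hw.2 hwm).trans (genOf_eq_self hz)
  choose V hzV g hgS hgφ huniq using hloc
  have hdisj : ∀ a b, a ≠ b → ∀ w, w ∈ V a → w ∉ V b := fun a b hab w ha hb => by
    obtain ⟨η, hη, hηw⟩ := FlatH4.exists_isMaxPt_specializes w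
    exact hab (Subtype.ext ((huniq a η (hηw.mem_open (V a).2 ha) hη).symm.trans
      (huniq b η (hηw.mem_open (V b).2 hb) hη)))
  let U : X.Opens := ⨆ a, V a
  let 𝒰 := (U : Scheme.{u}).openCoverOfIsOpenCover (fun a => U.ι ⁻¹ᵁ V a) (by
    rw [IsOpenCover, eq_top_iff]
    intro x _
    obtain ⟨a, ha⟩ := Opens.mem_iSup.1 x.2
    exact Opens.mem_iSup.2 ⟨a, ha⟩)
  let h : ∀ a, 𝒰.X a ⟶ G := fun a =>
    IsOpenImmersion.lift (V a).ι ((U.ι ⁻¹ᵁ V a).ι ≫ U.ι) (by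
      rw [Scheme.Opens.range_ι]; rintro - ⟨w, rfl⟩; exact w.2) ≫ g a
  have hglue : ∀ a b, pullback.fst (𝒰.f a) (𝒰.f b) ≫ h a = pullback.snd _ _ ≫ h b := fun a b => by
    by_cases hab : a = b
    · subst hab
      congr 1
      rw [← cancel_mono (𝒰.f a)]
      exact pullback.condition
    · haveI : IsEmpty (pullback (𝒰.f a) (𝒰.f b) : Scheme.{u}) := ⟨fun w => by
        have h1 : U.ι.base ((pullback.fst (𝒰.f a) (𝒰.f b) ≫ 𝒰.f a).base w) ∈ V a :=
          ((pullback.fst (𝒰.f a) (𝒰.f b)).base w).2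
        have h2 : U.ι.base ((pullback.snd (𝒰.f a) (𝒰.f b) ≫ 𝒰.f b).base w) ∈ V b :=
          ((pullback.snd (𝒰.f a) (𝒰.f b)).base w).2
        rw [pullback.condition] at h1
        exact hdisj a b hab _ h1 h2⟩
      exact isInitialOfIsEmpty.hom_ext _ _
  refine ⟨U, 𝒰.glueMorphisms h hglue, ?_, 𝒰.hom_ext _ _ fun a => ?_, fun z hz => ?_⟩
  · intro x
    obtain ⟨η, hη, hηx⟩ := FlatH4.exists_isMaxPt_specializes x
    exact closure_mono (Set.singleton_subset_iff.2 (Opens.mem_iSup.2 ⟨⟨η, hη⟩, hzV _⟩))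
      (specializes_iff_mem_closure.1 hηx)
  · rw [Scheme.Cover.ι_glueMorphisms_assoc]
    simp only [h, Category.assoc, hgS, IsOpenImmersion.lift_fac_assoc]
    rfl
  · refine ⟨Opens.mem_iSup.2 ⟨⟨z, hz⟩, hzV _⟩, ?_⟩
    let a : {z : X // FlatH4.IsMaxPt z} := ⟨z, hz⟩
    have hle : V a ≤ U := le_iSup V a
    let k : (V a : Scheme.{u}) ⟶ ((U.ι ⁻¹ᵁ V a : (U : Scheme.{u}).Opens) : Scheme.{u}) :=
      IsOpenImmersion.lift (U.ι ⁻¹ᵁ V a).ι (X.homOfLE hle) (by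
        rw [Scheme.Opens.range_ι]; rintro - ⟨w, rfl⟩
        show U.ι.base _ ∈ V a
        rw [← Scheme.Hom.comp_apply, Scheme.homOfLE_ι]
        exact w.2)
    have hk : k ≫ (U.ι ⁻¹ᵁ V a).ι = X.homOfLE hle := IsOpenImmersion.lift_fac _ _ _
    have hk' : k ≫ IsOpenImmersion.lift (V a).ι ((U.ι ⁻¹ᵁ V a).ι ≫ U.ι) (by
        rw [Scheme.Opens.range_ι]; rintro - ⟨w, rfl⟩; exact w.2) = 𝟙 _ := by
      rw [← cancel_mono (V a).ι, Category.assoc, IsOpenImmersion.lift_fac, Category.id_comp,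
        reassoc_of% hk, Scheme.homOfLE_ι]
    have e : U.fromSpecStalkOfMem z (Opens.mem_iSup.2 ⟨a, hzV a⟩) =
        ((V a).fromSpecStalkOfMem z (hzV a) ≫ k) ≫ 𝒰.f a := by
      rw [← cancel_mono U.ι, Category.assoc, Category.assoc]
      show _ = _ ≫ _ ≫ (U.ι ⁻¹ᵁ V a).ι ≫ U.ι
      rw [reassoc_of% hk, Scheme.homOfLE_ι, Scheme.Opens.fromSpecStalkOfMem_ι,
        Scheme.Opens.fromSpecStalkOfMem_ι]
    refine ((congrArg (· ≫ 𝒰.glueMorphisms h hglue) e).trans (Category.assoc _ _ _)).trans ?_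
    refine (congrArg (_ ≫ ·) (𝒰.ι_glueMorphisms h hglue a)).trans ?_
    rw [← hgφ a]
    simp only [h]
    refine (Category.assoc _ _ _).trans ?_
    congr 1
    refine (Category.assoc _ _ _).symm.trans ?_
    exact (congrArg (· ≫ g a) hk').trans (Category.id_comp _)

/-- A map into a proper group scheme given at the maximal points of a smooth scheme extends uniquely. -/
theorem exists_extension_of_maxPts {A : Type u} [CommRing A] [IsDedekindDomain A]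
    (X G : Over (Spec (CommRingCat.of A))) [GrpObj G] [Smooth X.hom] [IsProper G.hom]
    (φ : ∀ z : X.left, FlatH4.IsMaxPt z → (Spec (X.left.presheaf.stalk z) ⟶ G.left))
    (hφ : ∀ z hz, φ z hz ≫ G.hom = X.left.fromSpecStalk z ≫ X.hom) :
    ∃! g : X.left ⟶ G.left, g ≫ G.hom = X.hom ∧ ∀ z hz, X.left.fromSpecStalk z ≫ g = φ z hz := by
  haveI : IsLocallyNoetherian X.left := LocallyOfFiniteType.isLocallyNoetherian X.hom
  haveI := isDomain_stalk_of_smooth X.hom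
  haveI : IsReduced X.left := isReduced_of_isReduced_stalk _
  obtain ⟨U, f, hU, hf, hfφ⟩ := exists_open_of_maxPts X.hom G.hom (isDomain_stalk_of_smooth X.hom) φ hφ
  obtain ⟨g, ⟨hg, hgf⟩, -⟩ := exists_extension_of_isProper X G U hU f hf
  refine ⟨g, ⟨hg, fun z hz => ?_⟩, fun g' ⟨hg', hg'φ⟩ => ?_⟩
  · obtain ⟨hzU, h⟩ := hfφ z hz
    rw [← h, ← hgf, Scheme.Opens.fromSpecStalkOfMem_ι_assoc]
  · refine eq_of_forall_isMaxPt G.hom _ _ (hg'.trans hg.symm) fun z hz => ?_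
    obtain ⟨hzU, h⟩ := hfφ z hz
    rw [hg'φ z hz, ← h, ← hgf, Scheme.Opens.fromSpecStalkOfMem_ι_assoc]

end Groth.Agent.WeilExt
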